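import Cfsg.Agent.Lib.Schur.SylowCriterion

/-!
A finite group has trivial multiplier when, in each central extension with kernel of prime order,
the kernel meets the commutator subgroup of a Sylow preimage trivially.
-/

set_option autoImplicit false

namespace CfsgLib.KnownB.Mult

open Subgroup Cfsg
open scoped commutatorElement

universe u v

/-- A nontrivial central subgroup of order divisible by `p` has a subgroup of index `p`. -/
theorem exists_index_prime {A : Type v} [Group A] [Finite A] (hA : ∀ a b : A, a * b = b * a) {p : ℕ}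
    [hp : Fact p.Prime] (hd : p ∣ Nat.card A) : ∃ B : Subgroup A, B.index = p := by
  let f : A →* A := MonoidHom.mk' (fun a => a ^ p) fun a b => (Commute.mul_pow (hA a b) p)
  have hne : f.range ≠ ⊤ := by
    intro htop
    obtain ⟨a, ha⟩ := exists_prime_orderOf_dvd_card' p hd
    have hinj : Function.Injective f :=
      Finite.injective_iff_surjective.2 (MonoidHom.range_eq_top.1 htop)
    have h1 : a = 1 := hinj (show a ^ p = (1 : A) ^ p by rw [← ha, pow_orderOf_eq_one, one_pow])
    rw [h1, orderOf_one] at ha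
    exact hp.out.ne_one ha.symm
  obtain ⟨B, hB, hle⟩ := (eq_top_or_exists_le_coatom f.range).resolve_left hne
  have hn : B.Normal := ⟨fun b hb g => by rw [hA g b, mul_inv_cancel_right]; exact hb⟩
  obtain ⟨a, ha⟩ : ∃ a, a ∉ B := by
    by_contra hall
    push Not at hall
    exact hB.1 (eq_top_iff.2 fun x _ => hall x)
  refine ⟨B, ?_⟩
  have hgen : zpowers (QuotientGroup.mk a : A ⧸ B) = ⊤ := by
    have hlt : B < (zpowers (QuotientGroup.mk a : A ⧸ B)).comap (QuotientGroup.mk' B) := by
      refine lt_of_le_not_ge (fun b hb => ?_) fun hge => ha (hge (mem_zpowers _))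
      rw [mem_comap, QuotientGroup.mk'_apply, (QuotientGroup.eq_one_iff b).2 hb]
      exact one_mem _
    refine eq_top_iff.2 fun x _ => ?_
    induction x using QuotientGroup.induction_on with
    | H x =>
      have := mem_top x
      rw [← hB.2 _ hlt] at this
      exact this
  have hord : orderOf (QuotientGroup.mk a : A ⧸ B) = p := by
    refine orderOf_eq_prime ?_ fun h => ha ((QuotientGroup.eq_one_iff a).1 h)
    rw [← QuotientGroup.mk_pow, QuotientGroup.eq_one_iff]
    exact hle ⟨a, rfl⟩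
  rw [index_eq_card, ← hord, ← Nat.card_zpowers, hgen, Nat.card_congr topEquiv.toEquiv]

/-- The condition at the prime `p` for central extensions with kernel of order `p`. -/
def PrimeCond (Q : Type u) [Group Q] (p : ℕ) : Prop :=
  ∃ S : Sylow p Q, ∀ (Γ : Type u) [Group Γ] [Finite Γ] (σ : Γ →* Q),
    Function.Surjective σ → σ.ker ≤ center Γ → Nat.card σ.ker = p →
    ∀ x ∈ ⁅(S : Subgroup Q).comap σ, (S : Subgroup Q).comap σ⁆, x ∈ σ.ker → x = 1

theorem primeCond_of_cyclic {Q : Type u} [Group Q] {p : ℕ} (S : Sylow p Q)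
    (hS : IsCyclic (S : Subgroup Q)) : PrimeCond Q p :=
  ⟨S, fun _ _ _ σ _ hc _ x hx _ => Schur.sylow_condition_of_cyclic σ hc hS x hx⟩

theorem isCyclic_sylow {Q : Type u} [Group Q] [Finite Q] {p : ℕ} [hp : Fact p.Prime]
    (h : ¬ p ^ 2 ∣ Nat.card Q) (S : Sylow p Q) : IsCyclic (S : Subgroup Q) := by
  obtain ⟨k, hk⟩ := IsPGroup.iff_card.1 S.2
  match k, hk with
  | 0, hk =>
    have := (Nat.card_eq_one_iff_unique.1 (hk.trans (pow_zero p))).1
    exact isCyclic_of_subsingleton
  | 1, hk => exact isCyclic_of_prime_card (p := p) (hk.trans (pow_one p))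
  | k + 2, hk =>
    exact absurd ((dvd_trans (pow_dvd_pow p (Nat.le_add_left 2 k)) dvd_rfl).trans
      (hk ▸ (S : Subgroup Q).card_subgroup_dvd_card)) h

/-- A finite group satisfying the condition at every prime has trivial multiplier. -/
theorem hasTrivialMultiplier_of_primeCond {Q : Type u} [Group Q] [Finite Q]
    (h : ∀ (p : ℕ) [Fact p.Prime], PrimeCond Q p) : HasCyclicSchurMultiplier Q 1 := by
  refine Schur.hasCyclicSchurMultiplier_one_of_forall fun Γ _ _ σ hσ => ?_
  obtain ⟨hsurj, hcen, hcomm⟩ := hσ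
  by_contra hne
  obtain ⟨p, hp, hpd⟩ := Nat.exists_prime_and_dvd
    (fun h1 : Nat.card σ.ker = 1 => hne (Subgroup.eq_bot_of_card_eq _ h1))
  have := Fact.mk hp
  obtain ⟨B₀, hB₀⟩ := exists_index_prime (A := σ.ker)
    (fun a b => Subtype.ext (mem_center_iff.1 (hcen b.2) a)) hpd
  let B : Subgroup Γ := B₀.map σ.ker.subtype
  have hBk : B ≤ σ.ker := map_subtype_le _
  have hBn : B.Normal := ⟨fun x hx g => by
    rwa [mem_center_iff.1 (hcen (hBk hx)) g, mul_inv_cancel_right]⟩
  let τ : Γ ⧸ B →* Q := QuotientGroup.lift B σ hBk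
  have hτker : τ.ker = σ.ker.map (QuotientGroup.mk' B) := by
    refine le_antisymm (fun y hy => ?_) ?_
    · induction y using QuotientGroup.induction_on with
      | H y => exact ⟨y, hy, rfl⟩
    · rintro _ ⟨y, hy, rfl⟩
      exact hy
  have hcard : Nat.card τ.ker = p := by
    rw [hτker]
    have h1 := relIndex_ker (QuotientGroup.mk' B) (K := σ.ker)
    rw [QuotientGroup.ker_mk'] at h1
    rw [← h1, show B = B₀.map σ.ker.subtype from rfl, relIndex, subgroupOf,
      comap_map_eq_self_of_injective σ.ker.subtype_injective, hB₀]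
  have hτs : Function.Surjective τ := fun q => by
    obtain ⟨g, hg⟩ := hsurj q
    exact ⟨g, hg⟩
  have hτc : τ.ker ≤ center (Γ ⧸ B) := by
    rw [hτker]
    rintro _ ⟨y, hy, rfl⟩
    rw [mem_center_iff]
    intro w
    induction w using QuotientGroup.induction_on with
    | H w => exact congrArg _ (mem_center_iff.1 (hcen hy) w)
  have hτcomm : τ.ker ≤ _root_.commutator (Γ ⧸ B) := by
    rw [hτker]
    rintro _ ⟨y, hy, rfl⟩
    have := mem_map_of_mem (QuotientGroup.mk' B) (hcomm hy)
    rw [commutator_def, map_commutator] at this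
    exact commutator_mono le_top le_top this
  obtain ⟨⟨k, hk⟩, hko⟩ := exists_prime_orderOf_dvd_card' (G := τ.ker) p
    (dvd_of_eq hcard.symm)
  rw [← Subgroup.orderOf_coe] at hko
  change orderOf k = p at hko
  obtain ⟨P, hP⟩ := (IsPGroup.of_card (n := 1) (G := zpowers k)
    (by rw [Nat.card_zpowers, hko, pow_one])).exists_le_sylow
  have hkP : k ∈ (P : Subgroup (Γ ⧸ B)) := hP (mem_zpowers k)
  obtain ⟨S, hS⟩ := h p
  obtain ⟨S', hS'⟩ := (P.2.map τ).exists_le_sylow
  obtain ⟨g, hg⟩ := MulAction.exists_smul_eq Q S' S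
  let τ' : Γ ⧸ B →* Q := (MulAut.conj g).toMonoidHom.comp τ
  have hker : τ'.ker = τ.ker := by
    ext y
    rw [MonoidHom.mem_ker, MonoidHom.mem_ker]
    exact (MulAut.conj g).map_eq_one_iff
  have hPS : (P : Subgroup (Γ ⧸ B)) ≤ (S : Subgroup Q).comap τ' := by
    intro y hy
    rw [mem_comap, ← hg, Sylow.coe_subgroup_smul, Subgroup.mem_pointwise_smul_iff_inv_smul_mem]
    have hy' := hS' (mem_map_of_mem τ hy)
    show (MulAut.conj g)⁻¹ • (MulAut.conj g (τ y)) ∈ (S' : Subgroup Q)
    rw [← MulAut.smul_def, inv_smul_smul]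
    exact hy'
  have h1 : MonoidHom.transfer (Abelianization.of : (P : Subgroup (Γ ⧸ B)) →* _) k = 1 :=
    Abelianization.commutator_subset_ker _ (hτcomm hk)
  rw [MonoidHom.transfer_eq_pow _ k (fun n y _ => by
    rw [mul_assoc, ← (mem_center_iff.1 ((center (Γ ⧸ B)).pow_mem (hτc hk) n) y),
      inv_mul_cancel_left])] at h1
  have h2 : k ^ (P : Subgroup (Γ ⧸ B)).index ∈ ⁅(P : Subgroup (Γ ⧸ B)), (P : Subgroup (Γ ⧸ B))⁆ := by
    rw [← Subgroup.map_subtype_commutator]
    exact ⟨_, by rw [← Abelianization.ker_of]; exact h1, rfl⟩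
  have h3 : k ^ (P : Subgroup (Γ ⧸ B)).index = 1 :=
    hS _ τ' ((MulAut.conj g).surjective.comp hτs) (hker ▸ hτc) (hker ▸ hcard) _
      (Subgroup.commutator_mono hPS hPS h2) (hker ▸ τ.ker.pow_mem hk _)
  have h4 := orderOf_dvd_of_pow_eq_one h3
  rw [hko] at h4
  exact P.not_dvd_index h4

end CfsgLib.KnownB.Mult
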