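import Mathlib

/-!
Collection of words in a central extension with kernel of prime order: the central part is recorded
as a list of unknowns, and relations among the unknowns as coefficient lists.
-/

set_option autoImplicit false

namespace CfsgLib.KnownB.Mult

/-- equality of words -/
def eqW : List ℕ → List ℕ → Bool
  | [], [] => true
  | a :: v, b :: w => Nat.beq a b && eqW v w
  | _, _ => false

theorem eqW_iff : ∀ {v w : List ℕ}, eqW v w = true ↔ v = w
  | [], [] => by simp [eqW]
  | [], b :: w => by simp [eqW]
  | a :: v, [] => by simp [eqW]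
  | a :: v, b :: w => by simp [eqW, eqW_iff (v := v) (w := w)]

/-- remove a prefix -/
def strip : List ℕ → List ℕ → Option (List ℕ)
  | [], w => some w
  | _ :: _, [] => none
  | a :: v, b :: w => bif Nat.beq a b then strip v w else none

theorem strip_eq : ∀ {v w r : List ℕ}, strip v w = some r → w = v ++ r
  | [], w, r, h => by simp_all [strip]
  | a :: v, [], r, h => by simp [strip] at h
  | a :: v, b :: w, r, h => by
    rw [strip] at h
    cases hb : Nat.beq a b
    · simp [hb] at h
    · simp only [hb, cond_true] at h
      rw [Nat.beq_eq] at hb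
      simp [hb, strip_eq h]

/-- rewriting rules -/
abbrev RuleList := List (List ℕ × List ℕ)

/-- apply the first applicable rule, numbering from `i` -/
def findRule : RuleList → ℕ → List ℕ → Option (ℕ × List ℕ)
  | [], _, _ => none
  | p :: l, i, w => match strip p.1 w with
    | some r => some (i, p.2 ++ r)
    | none => findRule l (i + 1) w

/-- rewrite the leftmost redex -/
def stepW (R : RuleList) : List ℕ → Option (ℕ × List ℕ)
  | [] => none
  | a :: w => match findRule R 0 (a :: w) with
    | some r => some r
    | none => match stepW R w with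
      | some r => some (r.1, a :: r.2)
      | none => none

/-- repeated rewriting, with the list of rules used -/
def collect (R : RuleList) : ℕ → List ℕ → List ℕ × List ℕ
  | 0, w => ([], w)
  | n + 1, w => match stepW R w with
    | none => ([], w)
    | some r => let c := collect R n r.2; (r.1 :: c.1, c.2)

section
variable {F : Type*} [Group F]

/-- product along a word -/
def P (x : ℕ → F) (w : List ℕ) : F := (w.map x).prod

theorem P_nil (x : ℕ → F) : P x [] = 1 := rfl

theorem P_cons (x : ℕ → F) (a : ℕ) (w : List ℕ) : P x (a :: w) = x a * P x w := by simp [P]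

theorem P_append (x : ℕ → F) (v w : List ℕ) : P x (v ++ w) = P x v * P x w := by simp [P]

variable (p : ℕ)

/-- sum of the unknowns of a list -/
def uSum (u : ℕ → ZMod p) (s : List ℕ) : ZMod p := (s.map u).sum

/-- central map and lifted rules -/
structure Rules (R : RuleList) (x : ℕ → F) (ι : ZMod p → F) (u : ℕ → ZMod p) : Prop where
  ι_zero : ι 0 = 1
  ι_add : ∀ a b, ι (a + b) = ι a * ι b
  central : ∀ a f, ι a * f = f * ι a
  rel : ∀ i (hi : i < R.length), P x R[i].1 = ι (u i) * P x R[i].2

variable {p} {R : RuleList} {x : ℕ → F} {ι : ZMod p → F} {u : ℕ → ZMod p}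

theorem Rules.findRule (h : Rules p R x ι u) :
    ∀ (l : RuleList) (i : ℕ) (w : List ℕ) (r : ℕ × List ℕ),
      (∀ k (hk : k < l.length), P x l[k].1 = ι (u (i + k)) * P x l[k].2) →
      Mult.findRule l i w = some r → P x w = ι (u r.1) * P x r.2
  | [], _, _, _, _, he => by simp [Mult.findRule] at he
  | q :: l, i, w, r, hl, he => by
    rw [Mult.findRule] at he
    split at he
    · next t ht =>
      obtain rfl := Option.some.inj he
      have := hl 0 (by simp)
      rw [List.getElem_cons_zero, add_zero] at this
      rw [strip_eq ht, P_append, this, P_append, mul_assoc]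
    · refine h.findRule l (i + 1) w r (fun k hk => ?_) he
      have := hl (k + 1) (by simp; omega)
      rw [List.getElem_cons_succ] at this
      rwa [show i + 1 + k = i + (k + 1) by omega]

theorem Rules.stepW (h : Rules p R x ι u) :
    ∀ (w : List ℕ) (r : ℕ × List ℕ), Mult.stepW R w = some r → P x w = ι (u r.1) * P x r.2
  | [], r, he => by simp [Mult.stepW] at he
  | a :: w, r, he => by
    rw [Mult.stepW] at he
    split at he
    · next r' hr =>
      obtain rfl := Option.some.inj he
      exact h.findRule R 0 _ _ (fun k hk => by rw [zero_add]; exact h.rel k hk) hr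
    · split at he
      · next r' hr =>
        obtain rfl := Option.some.inj he
        rw [P_cons, h.stepW w r' hr, P_cons, ← mul_assoc, ← h.central, mul_assoc]
      · simp at he

theorem Rules.collect (h : Rules p R x ι u) :
    ∀ n w, P x w = ι (uSum p u (Mult.collect R n w).1) * P x (Mult.collect R n w).2
  | 0, w => by simp [Mult.collect, uSum, h.ι_zero]
  | n + 1, w => by
    rw [Mult.collect]
    split
    · simp [uSum, h.ι_zero]
    · next r hr =>
      rw [h.stepW w r hr, h.collect n r.2, uSum, uSum, List.map_cons, List.sum_cons, h.ι_add,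
        mul_assoc]

end

/-! ### coefficient lists -/

variable (p : ℕ)

/-- value of a coefficient list, numbered from `t` -/
def dot (u : ℕ → ZMod p) : List ℕ → ℕ → ZMod p
  | [], _ => 0
  | c :: l, t => (c : ZMod p) * u t + dot u l (t + 1)

/-- sum -/
def addV : List ℕ → List ℕ → List ℕ
  | [], b => b
  | a, [] => a
  | c :: a, d :: b => (c + d) % p :: addV a b

/-- scalar multiple -/
def smulV (k : ℕ) (a : List ℕ) : List ℕ := a.map fun c => k * c % p

/-- one unknown -/
def unitV : ℕ → List ℕ
  | 0 => [1]
  | t + 1 => 0 :: unitV t

/-- a sum of unknowns -/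
def vecOf : List ℕ → List ℕ
  | [] => []
  | t :: s => addV p (unitV t) (vecOf s)

/-- vanishing modulo `p` -/
def isZeroV (a : List ℕ) : Bool := a.all fun c => Nat.beq (c % p) 0

variable {p} (u : ℕ → ZMod p)

theorem dot_addV : ∀ (a b : List ℕ) (t : ℕ), dot p u (addV p a b) t = dot p u a t + dot p u b t
  | [], b, t => by simp [addV, dot]
  | c :: a, [], t => by simp [addV, dot]
  | c :: a, d :: b, t => by
    rw [addV, dot, dot, dot, dot_addV a b, ZMod.natCast_mod, Nat.cast_add]
    ring

theorem dot_smulV (k : ℕ) : ∀ (a : List ℕ) (t : ℕ), dot p u (smulV p k a) t = k * dot p u a t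
  | [], t => by simp [smulV, dot]
  | c :: a, t => by
    have e : smulV p k (c :: a) = k * c % p :: smulV p k a := rfl
    rw [e, dot, dot, dot_smulV k a, ZMod.natCast_mod, Nat.cast_mul]
    ring

theorem dot_unitV : ∀ (s t : ℕ), dot p u (unitV s) t = u (t + s)
  | 0, t => by simp [unitV, dot]
  | s + 1, t => by rw [unitV, dot, dot_unitV s, Nat.cast_zero, zero_mul, zero_add, add_assoc, add_comm 1]

theorem dot_vecOf : ∀ s : List ℕ, dot p u (vecOf p s) 0 = uSum p u s
  | [] => by simp [vecOf, dot, uSum]
  | t :: s => by
    rw [vecOf, dot_addV, dot_unitV, dot_vecOf s, zero_add, uSum, uSum, List.map_cons, List.sum_cons]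

theorem dot_eq_zero : ∀ (a : List ℕ) (t : ℕ), isZeroV p a = true → dot p u a t = 0
  | [], t, _ => rfl
  | c :: a, t, h => by
    simp only [isZeroV, List.all_cons, Bool.and_eq_true, Nat.beq_eq] at h
    rw [dot, dot_eq_zero a (t + 1) h.2, ← ZMod.natCast_mod, h.1, Nat.cast_zero, zero_mul, zero_add]

end CfsgLib.KnownB.Mult
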