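import Cfsg.Agent.Lib.KnownB.Mult.Pc
import Cfsg.Agent.Lib.KnownB.Mult.Eval
import Cfsg.Agent.Lib.KnownB.Mult.Reduce

/-!
Certificates that the kernel of a central extension with kernel of order `p` meets the commutator
subgroup of a Sylow preimage trivially.

The Sylow subgroup is given by a power-conjugate presentation. A lift turns each relation into an
unknown in `ZMod p`; collection of overlapping words, and conjugation by elements carrying a
subgroup into the Sylow subgroup, give linear relations among the unknowns, from which shifted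
lifts satisfying the relations exactly are obtained.
-/

set_option autoImplicit false

namespace CfsgLib.KnownB.Mult

open Subgroup
open scoped commutatorElement

universe u

/-- computable codes for elements of a group -/
structure Code (Q : Type u) [Group Q] (C : Type) where
  rep : Q → C → Prop
  mul : C → C → C
  one : C
  eqc : C → C → Bool
  okc : C → Bool
  rep_mul : ∀ {a b x y}, rep a x → rep b y → rep (a * b) (mul x y)
  rep_one : rep 1 one
  eq_iff : ∀ {a b x y}, rep a x → rep b y → (eqc x y = true ↔ a = b)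
  exists_rep : ∀ {x}, okc x = true → ∃ a, rep a x

/-- kind of a linear relation -/
inductive Spec where
  /-- `pre · lhs · post` collected in two ways -/
  | ovl (pre : List ℕ) (i : ℕ) (post : List ℕ)
  /-- two equal words in the conjugated subgroup -/
  | cnj (k0 : ℕ) (w1 w2 : List ℕ)

/-- certificate data -/
structure Cert (C : Type) where
  n : ℕ
  σ : List C
  rules : RuleList
  /-- conjugator, word, image of the word -/
  conjs : List (C × List ℕ × List ℕ)
  rows : List (Spec × List ℕ)
  /-- shifts of the lifts -/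
  lam : List (List ℕ)
  /-- combinations of rows -/
  combos : List (List (ℕ × ℕ))

/-- collection steps allowed -/
abbrev fuel : ℕ := 600

variable {C : Type} {Q : Type u} [Group Q]

namespace Cert

variable (K : Code Q C) (c : Cert C) (p : ℕ)

def σc (j : ℕ) : C := c.σ.getD j K.one

def ev (w : List ℕ) : C := w.foldr (fun a e => K.mul (c.σc K a) e) K.one

def gc (k : ℕ) : C := (c.conjs.getD k (K.one, [], [])).1
def src (k : ℕ) : List ℕ := (c.conjs.getD k (K.one, [], [])).2.1
def img (k : ℕ) : List ℕ := (c.conjs.getD k (K.one, [], [])).2.2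

def genOK : Bool := c.σ.all K.okc && c.conjs.all fun q => K.okc q.1

def relOK : Bool :=
  (c.rules.all fun r => K.eqc (c.ev K r.1) (c.ev K r.2)) &&
    (List.range c.conjs.length).all fun k =>
      K.eqc (K.mul (c.gc K k) (c.ev K (c.src K k))) (K.mul (c.ev K (c.img K k)) (c.gc K k))

def inWin (k : ℕ) (w : List ℕ) : Bool := w.all fun j => Nat.blt k j && Nat.blt j c.n

def pcOK : Bool :=
  (List.range c.n).all fun k =>
    (c.rules.any fun r => eqW r.1 (List.replicate p k) && c.inWin k r.2) &&
      (List.range c.n).all fun b => !Nat.blt k b ||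
        c.rules.any fun r => eqW r.1 [b, k] &&
          match r.2 with
          | [] => false
          | a :: w => Nat.beq a k && c.inWin k w

def powC (x : C) : ℕ → C
  | 0 => K.one
  | a + 1 => K.mul x (powC x a)

/-- the elements of the subgroup of the last `d` generators -/
def elems : ℕ → List C
  | 0 => [K.one]
  | d + 1 => let E := elems d
    (List.range p).flatMap fun a => E.map (K.mul (powC K (c.σc K (c.n - d - 1)) a))

def indepOK : Bool :=
  (List.range c.n).all fun d => !(c.elems K p d).any (K.eqc (c.σc K (c.n - d - 1)))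

def specOK : Spec → Bool
  | .ovl pre i post =>
    Nat.blt i c.rules.length &&
      eqW (collect c.rules fuel (pre ++ (c.rules.getD i ([], [])).1 ++ post)).2
        (collect c.rules fuel (pre ++ (c.rules.getD i ([], [])).2 ++ post)).2
  | .cnj k0 w1 w2 =>
    Nat.blt k0 c.conjs.length &&
      ((w1 ++ w2).all fun k => Nat.blt k c.conjs.length && K.eqc (c.gc K k0) (c.gc K k)) &&
      eqW (collect c.rules fuel (w1.flatMap (c.src K))).2 (collect c.rules fuel (w2.flatMap (c.src K))).2 &&
      eqW (collect c.rules fuel (w1.flatMap (c.img K))).2 (collect c.rules fuel (w2.flatMap (c.img K))).2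

/-- the relation of a kind -/
def rowVec : Spec → List ℕ
  | .ovl pre i post =>
    addV p (vecOf p (collect c.rules fuel (pre ++ (c.rules.getD i ([], [])).1 ++ post)).1)
      (smulV p (p - 1)
        (vecOf p (i :: (collect c.rules fuel (pre ++ (c.rules.getD i ([], [])).2 ++ post)).1)))
  | .cnj _ w1 w2 =>
    addV p
      (vecOf p (w1.map (c.rules.length + ·) ++
        (collect c.rules fuel (w1.flatMap (c.img K))).1 ++
        (collect c.rules fuel (w2.flatMap (c.src K))).1))
      (smulV p (p - 1) (vecOf p (w2.map (c.rules.length + ·) ++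
        (collect c.rules fuel (w2.flatMap (c.img K))).1 ++
        (collect c.rules fuel (w1.flatMap (c.src K))).1)))

def rowsOK : Bool := c.rows.all fun r => c.specOK K r.1 && eqW r.2 (c.rowVec K p r.1)

def lamV (w : List ℕ) : List ℕ := w.foldr (fun a e => addV p (c.lam.getD a []) e) []

def comb (l : List (ℕ × ℕ)) : List ℕ :=
  l.foldr (fun q e => addV p (smulV p q.2 (c.rows.getD q.1 (Spec.ovl [] 0 [], [])).2) e) []

def targetOK : Bool :=
  (List.range c.rules.length).all fun i =>
    isZeroV p (addV p
      (addV p (unitV i) (addV p (c.lamV p (c.rules.getD i ([], [])).1)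
        (smulV p (p - 1) (c.lamV p (c.rules.getD i ([], [])).2))))
      (c.comb p (c.combos.getD i []))) &&
    (c.combos.getD i []).all fun q => Nat.blt q.1 c.rows.length

structure Core : Prop where
  gen : c.genOK K = true
  rel : c.relOK K = true
  pc : c.pcOK p = true
  rows : c.rowsOK K p = true
  target : c.targetOK p = true

/-- the checks with the list of elements as proof of independence -/
structure Valid : Prop where
  gen : c.genOK K = true
  rel : c.relOK K = true
  pc : c.pcOK p = true
  indep : c.indepOK K p = true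
  rows : c.rowsOK K p = true
  target : c.targetOK p = true

theorem Valid.core {K : Code Q C} {c : Cert C} {p : ℕ} (h : c.Valid K p) : c.Core K p :=
  ⟨h.gen, h.rel, h.pc, h.rows, h.target⟩

end Cert

open Classical in
/-- the element of a code -/
noncomputable def el (K : Code Q C) (x : C) : Q := if h : ∃ a, K.rep a x then h.choose else 1

theorem rep_el {K : Code Q C} {x : C} (h : ∃ a, K.rep a x) : K.rep (el K x) x := by
  rw [el, dif_pos h]; exact h.choose_spec

namespace Cert

variable {K : Code Q C} {c : Cert C} {p : ℕ} (hc : c.Core K p)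

/-- generators in the group -/
noncomputable def gen (K : Code Q C) (c : Cert C) (j : ℕ) : Q := el K (c.σc K j)

include hc in
theorem rep_gen (j : ℕ) : K.rep (c.gen K j) (c.σc K j) := by
  refine rep_el ?_
  rw [Cert.σc]
  rcases lt_or_ge j c.σ.length with h | h
  · rw [List.getD_eq_getElem _ _ h]
    have := hc.gen
    simp only [genOK, Bool.and_eq_true, List.all_eq_true] at this
    exact K.exists_rep (this.1 _ (List.getElem_mem h))
  · rw [List.getD_eq_default _ _ h]
    exact ⟨1, K.rep_one⟩

include hc in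
theorem rep_ev : ∀ w : List ℕ, K.rep (P (c.gen K) w) (c.ev K w)
  | [] => K.rep_one
  | a :: w => by rw [P_cons]; exact K.rep_mul (rep_gen hc a) (rep_ev w)

/-- conjugators -/
noncomputable def cel (K : Code Q C) (c : Cert C) (k : ℕ) : Q := el K (c.gc K k)

include hc in
theorem rep_cel (k : ℕ) : K.rep (c.cel K k) (c.gc K k) := by
  refine rep_el ?_
  rw [gc]
  rcases lt_or_ge k c.conjs.length with h | h
  · rw [List.getD_eq_getElem _ _ h]
    have := hc.gen
    simp only [genOK, Bool.and_eq_true, List.all_eq_true] at this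
    exact K.exists_rep (this.2 _ (List.getElem_mem h))
  · rw [List.getD_eq_default _ _ h]
    exact ⟨1, K.rep_one⟩

include hc in
theorem gen_rel {i : ℕ} (hi : i < c.rules.length) :
    P (c.gen K) c.rules[i].1 = P (c.gen K) c.rules[i].2 := by
  have h := hc.rel
  simp only [relOK, Bool.and_eq_true, List.all_eq_true] at h
  exact (K.eq_iff (rep_ev hc _) (rep_ev hc _)).1 (h.1 _ (List.getElem_mem hi))

include hc in
theorem cel_rel {k : ℕ} (hk : k < c.conjs.length) :
    c.cel K k * P (c.gen K) (c.src K k) = P (c.gen K) (c.img K k) * c.cel K k := by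
  have h := hc.rel
  simp only [relOK, Bool.and_eq_true, List.all_eq_true] at h
  exact (K.eq_iff (K.rep_mul (rep_cel hc k) (rep_ev hc _))
    (K.rep_mul (rep_ev hc _) (rep_cel hc k))).1 (h.2 _ (List.mem_range.2 hk))

/-- power rules and conjugation rules put a sequence in power-conjugate form -/
theorem isPc_of_rules {X : Type*} [Group X] (hpc : c.pcOK p = true) {x : ℕ → X}
    (hx : ∀ i (hi : i < c.rules.length), P x c.rules[i].1 = P x c.rules[i].2) : IsPc p x c.n := by
  simp only [pcOK, List.all_eq_true, List.mem_range, Bool.and_eq_true, List.any_eq_true,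
    Bool.or_eq_true, Bool.not_eq_true'] at hpc
  have hwin : ∀ k w, c.inWin k w = true → P x w ∈ tail x c.n (k + 1) := by
    intro k w
    induction w with
    | nil => exact fun _ => one_mem _
    | cons a w ih =>
      intro h
      simp only [inWin, List.all_cons, Bool.and_eq_true, Nat.blt_eq] at h
      rw [P_cons]
      exact mul_mem (mem_tail x h.1.1 h.1.2) (ih h.2)
  constructor
  · intro k hk
    obtain ⟨r, hr, he, hw⟩ := (hpc k hk).1
    obtain ⟨i, hi, rfl⟩ := List.getElem_of_mem hr
    have hxi := hx i hi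
    rw [eqW_iff] at he
    rw [he, P, List.map_replicate, List.prod_replicate] at hxi
    rw [hxi]
    exact hwin k _ hw
  · intro k b hkb hb
    rcases (hpc k (hkb.trans hb)).2 b hb with h | ⟨r, hr, he, hw⟩
    · rw [← Bool.not_eq_true, Nat.blt_eq] at h
      exact absurd hkb h
    · obtain ⟨i, hi, rfl⟩ := List.getElem_of_mem hr
      have hxi := hx i hi
      rw [eqW_iff] at he
      split at hw
      · simp at hw
      · next a w hrw =>
        simp only [Bool.and_eq_true, Nat.beq_eq] at hw
        rw [he, hrw, hw.1, P_cons, P_cons, P_cons, P_nil, mul_one] at hxi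
        rw [mul_assoc, hxi, inv_mul_cancel_left]
        exact hwin k w hw.2

include hc in
theorem isPc_gen : IsPc p (c.gen K) c.n := isPc_of_rules hc.pc fun _ hi => gen_rel hc hi

theorem rep_powC {a : Q} {x : C} (h : K.rep a x) : ∀ m, K.rep (a ^ m) (powC K x m)
  | 0 => by rw [pow_zero]; exact K.rep_one
  | m + 1 => by rw [pow_succ']; exact K.rep_mul h (rep_powC h m)

variable [hp : Fact p.Prime] [Finite Q]

include hc in
theorem exists_elem : ∀ d k, k + d = c.n → ∀ g ∈ tail (c.gen K) c.n k,
    ∃ e ∈ c.elems K p d, K.rep g e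
  | 0, k, hk, g, hg => by
    rw [tail_eq_bot _ (by omega), mem_bot] at hg
    exact ⟨K.one, List.mem_singleton.2 rfl, hg ▸ K.rep_one⟩
  | d + 1, k, hk, g, hg => by
    obtain ⟨a, ha, t, ht, rfl⟩ := (isPc_gen hc).exists_rep (by omega) hg
    obtain ⟨e, he, hte⟩ := exists_elem d (k + 1) (by omega) t ht
    refine ⟨K.mul (powC K (c.σc K (c.n - d - 1)) a) e, ?_, ?_⟩
    · exact List.mem_flatMap.2 ⟨a, List.mem_range.2 ha, List.mem_map.2 ⟨e, he, rfl⟩⟩
    · refine K.rep_mul ?_ hte
      rw [show c.n - d - 1 = k by omega]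
      exact rep_powC (rep_gen hc k) a

omit hc in
theorem Valid.gen_notMem (hv : c.Valid K p) {k : ℕ} (hk : k < c.n) : c.gen K k ∉ tail (c.gen K) c.n (k + 1) := by
  intro hmem
  obtain ⟨e, he, hr⟩ := exists_elem hv.core (c.n - k - 1) (k + 1) (by omega) _ hmem
  have h := hv.indep
  simp only [indepOK, List.all_eq_true, List.mem_range, Bool.not_eq_true'] at h
  have h1 := h (c.n - k - 1) (by omega)
  rw [show c.n - (c.n - k - 1) - 1 = k by omega, List.any_eq_false] at h1
  exact h1 e he ((K.eq_iff (rep_gen hv.core k) hr).2 rfl)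

/-- the Sylow subgroup -/
noncomputable def syl (K : Code Q C) (c : Cert C) : Subgroup Q := tail (c.gen K) c.n 0

variable (hne : ∀ k < c.n, c.gen K k ∉ tail (c.gen K) c.n (k + 1))

include hc hne in
theorem natCard_syl : Nat.card (c.syl K) = p ^ c.n :=
  (isPc_gen hc).natCard_tail hne c.n 0 (zero_add _)

include hc hne in
theorem primeCond_of_notMem {m : ℕ} (hN : Nat.card Q = p ^ c.n * m) (hm : ¬ p ∣ m) : PrimeCond Q p := by
  have hidx : ¬ p ∣ (c.syl K).index := by
    have h := (c.syl K).card_mul_index
    rw [natCard_syl hc hne, hN] at h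
    rwa [Nat.eq_of_mul_eq_mul_left (pow_pos hp.out.pos _) h]
  refine ⟨(IsPGroup.of_card (natCard_syl hc hne)).toSylow hidx, fun Γ _ _ σ hsurj hcen hker => ?_⟩
  show ∀ x ∈ ⁅(c.syl K).comap σ, (c.syl K).comap σ⁆, x ∈ σ.ker → x = 1
  -- a generator of the kernel
  have := (Finite.one_lt_card_iff_nontrivial (α := σ.ker)).1 (hker ▸ hp.out.one_lt)
  obtain ⟨z', hz'⟩ := exists_ne (1 : σ.ker)
  have hzo : orderOf (z' : Γ) = p := by
    rw [Subgroup.orderOf_coe]
    have hd : orderOf z' ∣ p := hker ▸ orderOf_dvd_natCard z'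
    rcases (Nat.dvd_prime hp.out).1 hd with h | h
    · exact absurd (orderOf_eq_one_iff.1 h) hz'
    · exact h
  have hzcard : zpowers (z' : Γ) = σ.ker :=
    eq_of_le_of_card_ge (zpowers_le.2 z'.2) (by rw [Nat.card_zpowers, hzo, hker])
  let ι : ZMod p → Γ := fun a => (z' : Γ) ^ a.val
  have hι0 : ι 0 = 1 := by simp [ι]
  have hιadd : ∀ a b, ι (a + b) = ι a * ι b := fun a b => by
    show (z' : Γ) ^ (a + b).val = (z' : Γ) ^ a.val * (z' : Γ) ^ b.val
    rw [ZMod.val_add, ← pow_add]
    have h := pow_mod_orderOf (z' : Γ) (a.val + b.val)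
    rwa [hzo] at h
  have hιker : ∀ a, ι a ∈ σ.ker := fun a => pow_mem z'.2 _
  have hιsurj : ∀ g ∈ σ.ker, ∃ a, g = ι a := by
    intro g hg
    rw [← hzcard, mem_zpowers_iff] at hg
    obtain ⟨m, rfl⟩ := hg
    refine ⟨(m : ZMod p), ?_⟩
    show (z' : Γ) ^ m = (z' : Γ) ^ ((m : ZMod p)).val
    rw [← zpow_natCast (z' : Γ) ((m : ZMod p)).val, ZMod.val_intCast, ← hzo, zpow_mod_orderOf]
  have hιinj : ∀ a b, ι a = ι b → a = b := fun a b h => by
    refine ZMod.val_injective p ?_
    have h' := pow_injOn_Iio_orderOf (x := (z' : Γ))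
    exact h' (Set.mem_Iio.2 (hzo.symm ▸ ZMod.val_lt a)) (Set.mem_Iio.2 (hzo.symm ▸ ZMod.val_lt b)) h
  have hιc : ∀ a f, ι a * f = f * ι a := fun a f => (mem_center_iff.1 (hcen (hιker a)) f).symm
  have hσι : ∀ a, σ (ι a) = 1 := hιker
  have hdiff : ∀ f f' : Γ, σ f = σ f' → ∃ a, f = ι a * f' := fun f f' h => by
    obtain ⟨a, ha⟩ := hιsurj (f * f'⁻¹)
      (by rw [MonoidHom.mem_ker, map_mul, map_inv, h, mul_inv_cancel])
    exact ⟨a, by rw [← ha, inv_mul_cancel_right]⟩
  -- lifts and unknowns
  let x : ℕ → Γ := fun j => Function.surjInv hsurj (c.gen K j)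
  let γ : ℕ → Γ := fun k => Function.surjInv hsurj (c.cel K k)
  have hσP : ∀ w, σ (P x w) = P (c.gen K) w := fun w => by
    rw [P, P, map_list_prod, List.map_map]
    exact congrArg List.prod (List.map_congr_left fun j _ => Function.surjInv_eq hsurj _)
  have hex : ∀ t, ∃ a : ZMod p,
      (∀ ht : t < c.rules.length, P x c.rules[t].1 = ι a * P x c.rules[t].2) ∧
      (∀ k, t = c.rules.length + k → k < c.conjs.length →
        γ k * P x (c.src K k) = ι a * (P x (c.img K k) * γ k)) := by
    intro t
    rcases lt_or_ge t c.rules.length with ht | ht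
    · obtain ⟨a, ha⟩ := hdiff (P x c.rules[t].1) (P x c.rules[t].2)
        (by rw [hσP, hσP, gen_rel hc ht])
      exact ⟨a, fun _ => ha, fun k hk => by omega⟩
    · by_cases hk : t - c.rules.length < c.conjs.length
      · obtain ⟨a, ha⟩ := hdiff (γ (t - c.rules.length) * P x (c.src K (t - c.rules.length)))
          (P x (c.img K (t - c.rules.length)) * γ (t - c.rules.length))
          (by rw [map_mul, map_mul, hσP, hσP, Function.surjInv_eq hsurj, cel_rel hc hk])
        refine ⟨a, fun h => absurd h (not_lt.2 ht), fun k hk _ => ?_⟩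
        rwa [show k = t - c.rules.length by omega]
      · exact ⟨0, fun h => absurd h (not_lt.2 ht), fun k hk' hk'' => absurd hk'' (by omega)⟩
  choose u hu1 hu2 using hex
  have R : Rules p c.rules x ι u := ⟨hι0, hιadd, hιc, fun i hi => hu1 i hi⟩
  -- conjugation of words
  have hconj : ∀ (k0 : ℕ) (w : List ℕ),
      (∀ k ∈ w, k < c.conjs.length ∧ γ k = γ k0) →
      γ k0 * P x (w.flatMap (c.src K)) =
        ι (uSum p u (w.map (c.rules.length + ·))) * (P x (w.flatMap (c.img K)) * γ k0) := by
    intro k0 w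
    induction w with
    | nil => intro _; simp [uSum, hι0, P_nil]
    | cons k w ih =>
      intro hw
      obtain ⟨hk, hgk⟩ := hw k List.mem_cons_self
      have h2 := hu2 _ k rfl hk
      rw [hgk] at h2
      have h3 := ih fun j hj => hw j (List.mem_cons_of_mem _ hj)
      rw [List.flatMap_cons, List.flatMap_cons, P_append, P_append, List.map_cons, uSum,
        List.map_cons, List.sum_cons, hιadd, ← uSum, ← mul_assoc (γ k0), h2]
      calc ι (u (c.rules.length + k)) * (P x (c.img K k) * γ k0) * P x (w.flatMap (c.src K))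
          = ι (u (c.rules.length + k)) * (P x (c.img K k) * (γ k0 * P x (w.flatMap (c.src K)))) := by
            simp only [mul_assoc]
        _ = _ := by
            rw [h3, ← mul_assoc (P x (c.img K k)), ← hιc]
            simp only [mul_assoc]
  have hneg : ((p - 1 : ℕ) : ZMod p) = -1 := by
    rw [Nat.cast_sub hp.out.one_le, ZMod.natCast_self, Nat.cast_one, zero_sub]
  -- the relations hold
  have hrow : ∀ r ∈ c.rows, dot p u r.2 0 = 0 := by
    intro r hr
    have h := hc.rows
    simp only [rowsOK, List.all_eq_true, Bool.and_eq_true] at h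
    obtain ⟨hs, hv⟩ := h r hr
    rw [eqW_iff] at hv
    rw [hv]
    obtain ⟨sp, v⟩ := r
    cases sp with
    | ovl pre i post =>
      simp only [specOK, Bool.and_eq_true, Nat.blt_eq, eqW_iff] at hs
      obtain ⟨hi, he⟩ := hs
      rw [rowVec, dot_addV, dot_smulV, dot_vecOf, dot_vecOf, hneg]
      have e : P x (pre ++ (c.rules.getD i ([], [])).1 ++ post) =
          ι (u i) * P x (pre ++ (c.rules.getD i ([], [])).2 ++ post) := by
        rw [List.getD_eq_getElem _ _ hi, P_append, P_append, hu1 i hi, P_append, P_append,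
          ← mul_assoc (P x pre), ← hιc]
        simp only [mul_assoc]
      rw [R.collect fuel, R.collect fuel (pre ++ (c.rules.getD i ([], [])).2 ++ post), he,
        ← mul_assoc, ← hιadd, mul_left_inj] at e
      rw [hιinj _ _ e, uSum, uSum, List.map_cons, List.sum_cons]
      ring
    | cnj k0 w1 w2 =>
      simp only [specOK, Bool.and_eq_true, Nat.blt_eq, eqW_iff, List.all_eq_true,
        List.mem_append] at hs
      obtain ⟨⟨⟨_, hw⟩, he1⟩, he2⟩ := hs
      have hg : ∀ k, (k ∈ w1 ∨ k ∈ w2) → k < c.conjs.length ∧ γ k = γ k0 := fun k hk => by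
        obtain ⟨h1, h2⟩ := hw k hk
        refine ⟨h1, ?_⟩
        show Function.surjInv hsurj _ = Function.surjInv hsurj _
        rw [(K.eq_iff (rep_cel hc k0) (rep_cel hc k)).1 h2]
      have a1 := hconj k0 w1 fun k hk => hg k (Or.inl hk)
      have a2 := hconj k0 w2 fun k hk => hg k (Or.inr hk)
      rw [R.collect fuel (w1.flatMap (c.src K)), R.collect fuel (w1.flatMap (c.img K)), he1, he2,
        ← mul_assoc, ← hιc, mul_assoc, mul_assoc, ← mul_assoc (ι _) (ι _), ← hιadd] at a1
      rw [R.collect fuel (w2.flatMap (c.src K)), R.collect fuel (w2.flatMap (c.img K)),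
        ← mul_assoc, ← hιc, mul_assoc, mul_assoc, ← mul_assoc (ι _) (ι _), ← hιadd] at a2
      rw [← eq_inv_mul_iff_mul_eq] at a2
      rw [a2, ← mul_assoc, ← mul_assoc, mul_left_inj] at a1
      have key : ∀ A B C D : ZMod p, ι A * (ι B)⁻¹ * ι D = ι C → A + D = C + B := by
        intro A B C D h
        refine hιinj _ _ ?_
        rw [hιadd, hιadd, ← h, mul_assoc _ (ι D), hιc D, mul_assoc (ι A), inv_mul_cancel_left]
      have := key _ _ _ _ a1
      rw [rowVec, dot_addV, dot_smulV, dot_vecOf, dot_vecOf, hneg, uSum, uSum, List.map_append,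
        List.map_append, List.sum_append, List.sum_append, List.map_append, List.map_append,
        List.sum_append, List.sum_append]
      simp only [uSum] at this
      linear_combination -this
  -- corrected lifts
  let y : ℕ → Γ := fun j => ι (dot p u (c.lam.getD j []) 0) * x j
  have hyP : ∀ w, P y w = ι (dot p u (c.lamV p w) 0) * P x w := by
    intro w
    induction w with
    | nil => simp [lamV, dot, hι0, P_nil]
    | cons a w ih =>
      have e : c.lamV p (a :: w) = addV p (c.lam.getD a []) (c.lamV p w) := rfl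
      rw [P_cons, P_cons, ih, e, dot_addV, hιadd]
      show ι _ * x a * _ = _
      rw [mul_assoc, ← mul_assoc (x a), ← hιc, mul_assoc, mul_assoc]
  have hy : ∀ i (hi : i < c.rules.length), P y c.rules[i].1 = P y c.rules[i].2 := by
    intro i hi
    have h := hc.target
    simp only [targetOK, List.all_eq_true, List.mem_range, Bool.and_eq_true, Nat.blt_eq] at h
    obtain ⟨hz, hcb⟩ := h i hi
    have hd := dot_eq_zero u _ 0 hz
    rw [dot_addV, dot_addV, dot_unitV, dot_addV, dot_smulV, hneg, zero_add] at hd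
    have hcomb : ∀ l : List (ℕ × ℕ), (∀ q ∈ l, q.1 < c.rows.length) →
        dot p u (c.comb p l) 0 = 0 := by
      intro l
      induction l with
      | nil => intro _; simp [comb, dot]
      | cons q l ih =>
        intro hl
        have e : c.comb p (q :: l) =
          addV p (smulV p q.2 (c.rows.getD q.1 (Spec.ovl [] 0 [], [])).2) (c.comb p l) := rfl
        have hq := hl q List.mem_cons_self
        rw [e, dot_addV, dot_smulV, ih fun j hj => hl j (List.mem_cons_of_mem _ hj),
          List.getD_eq_getElem _ _ hq, hrow _ (List.getElem_mem hq), mul_zero, add_zero]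
    rw [hcomb _ hcb, add_zero, List.getD_eq_getElem _ _ hi] at hd
    rw [hyP, hyP, hu1 i hi, ← mul_assoc, ← hιadd]
    congr 2
    linear_combination hd
  have hσy : ∀ j, σ (y j) = c.gen K j := fun j => by
    show σ (ι _ * x j) = _
    rw [map_mul, hσι, one_mul, Function.surjInv_eq hsurj]
  have hpcy : IsPc p y c.n := isPc_of_rules hc.pc hy
  let H := tail y c.n 0
  have hmap : ∀ k, (tail y c.n k).map σ = tail (c.gen K) c.n k := fun k => by
    rw [tail, MonoidHom.map_closure, ← Set.image_comp]
    exact congrArg Subgroup.closure (Set.image_congr fun j _ => hσy j)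
  have hinj : ∀ g ∈ H, σ g = 1 → g = 1 :=
    hpcy.eq_one_of_map_eq_one σ (fun k hk => by rw [hσy, hmap]; exact hne k hk) c.n 0
      (zero_add _)
  -- commutators of the preimage lie in `H`
  have hsplit : ∀ g ∈ (c.syl K).comap σ, ∃ a, ∃ h ∈ H, g = ι a * h := by
    intro g hg
    rw [mem_comap, syl, ← hmap 0] at hg
    obtain ⟨h, hh, he⟩ := hg
    obtain ⟨a, ha⟩ := hdiff g h he.symm
    exact ⟨a, h, hh, ha⟩
  intro w hw hwk
  refine hinj w ?_ hwk
  refine Subgroup.commutator_le.2 ?_ hw
  intro g1 hg1 g2 hg2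
  obtain ⟨a, h1, hh1, rfl⟩ := hsplit g1 hg1
  obtain ⟨b, h2, hh2, rfl⟩ := hsplit g2 hg2
  have e : ⁅ι a * h1, ι b * h2⁆ = ⁅h1, h2⁆ := by
    simp only [commutatorElement_def, mul_inv_rev]
    have ca : ∀ f, ι a * f = f * ι a := hιc a
    have cb : ∀ f, ι b * f = f * ι b := hιc b
    calc ι a * h1 * (ι b * h2) * (h1⁻¹ * (ι a)⁻¹) * (h2⁻¹ * (ι b)⁻¹)
        = ι a * (h1 * (ι b * (h2 * h1⁻¹))) * (ι a)⁻¹ * (h2⁻¹ * (ι b)⁻¹) := by group
      _ = h1 * (ι b * (h2 * h1⁻¹)) * ι a * (ι a)⁻¹ * (h2⁻¹ * (ι b)⁻¹) := by rw [ca]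
      _ = h1 * (h2 * h1⁻¹ * ι b) * ι a * (ι a)⁻¹ * (h2⁻¹ * (ι b)⁻¹) := by rw [cb]
      _ = h1 * (h2 * h1⁻¹) * (ι b * h2⁻¹) * (ι b)⁻¹ := by group
      _ = h1 * (h2 * h1⁻¹) * (h2⁻¹ * ι b) * (ι b)⁻¹ := by rw [cb]
      _ = h1 * h2 * h1⁻¹ * h2⁻¹ := by group
  rw [e, commutatorElement_def]
  exact mul_mem (mul_mem (mul_mem hh1 hh2) (inv_mem hh1)) (inv_mem hh2)

omit hc hne in
theorem primeCond (hv : c.Valid K p) {m : ℕ} (hN : Nat.card Q = p ^ c.n * m) (hm : ¬ p ∣ m) :
    PrimeCond Q p :=
  primeCond_of_notMem hv.core (fun _ hk => hv.gen_notMem hk) hN hm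

end Cert

end CfsgLib.KnownB.Mult
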