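import Cfsg.Agent.Lib.KnownB.Mult.Main

/-!
Independence of a power-conjugate sequence from transversal levels in an action on points.
-/

set_option autoImplicit false

namespace CfsgLib.KnownB.Mult

open Subgroup

universe u

variable {p : ℕ} [hp : Fact p.Prime] {X : Type u} [Group X] [Finite X] {x : ℕ → X} {n : ℕ}

theorem IsPc.natCard_tail_le (h : IsPc p x n) :
    ∀ d k, k + d = n → Nat.card (tail x n k) ≤ p ^ d
  | 0, k, hk => by rw [tail_eq_bot x (by omega), card_bot, pow_zero]
  | d + 1, k, hk => by
    let F : Fin p × tail x n (k + 1) → tail x n k := fun q =>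
      ⟨x k ^ (q.1 : ℕ) * q.2.1, mul_mem (Subgroup.pow_mem _ (mem_tail x le_rfl (by omega)) _)
        (tail_le x n k q.2.2)⟩
    have hF : Function.Surjective F := by
      rintro ⟨g, hg⟩
      obtain ⟨a, ha, t, ht, rfl⟩ := h.exists_rep (by omega) hg
      exact ⟨⟨⟨a, ha⟩, ⟨t, ht⟩⟩, rfl⟩
    refine (Nat.card_le_card_of_surjective F hF).trans ?_
    rw [Nat.card_prod, Nat.card_fin, pow_succ']
    exact Nat.mul_le_mul_left p (h.natCard_tail_le d (k + 1) (by omega))

theorem IsPc.notMem_of_card (h : IsPc p x n) (hcard : p ^ n ≤ Nat.card (tail x n 0)) :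
    ∀ k < n, x k ∉ tail x n (k + 1) := by
  intro k hk hmem
  have heq : tail x n k = tail x n (k + 1) := by
    rw [tail_eq_sup x hk]
    exact sup_eq_right.2 (zpowers_le.2 hmem)
  have hup : ∀ j ≤ k, Nat.card (tail x n (k - j)) ≤ p ^ j * Nat.card (tail x n k) := by
    intro j hj
    induction j with
    | zero => simp
    | succ j ih =>
      have hjk : k - (j + 1) + 1 = k - j := by omega
      let F : Fin p × tail x n (k - j) → tail x n (k - (j + 1)) := fun q =>
        ⟨x (k - (j + 1)) ^ (q.1 : ℕ) * q.2.1,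
          mul_mem (Subgroup.pow_mem _ (mem_tail x le_rfl (by omega)) _)
            (tail_le x n (k - (j + 1)) (by rw [hjk]; exact q.2.2))⟩
      have hF : Function.Surjective F := by
        rintro ⟨g, hg⟩
        obtain ⟨a, ha, t, ht, rfl⟩ := h.exists_rep (by omega) hg
        rw [hjk] at ht
        exact ⟨⟨⟨a, ha⟩, ⟨t, ht⟩⟩, rfl⟩
      refine (Nat.card_le_card_of_surjective F hF).trans ?_
      rw [Nat.card_prod, Nat.card_fin, pow_succ', mul_assoc]
      exact Nat.mul_le_mul_left p (ih (by omega))
  have h0 := hup k le_rfl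
  rw [Nat.sub_self, heq] at h0
  have h1 := hcard.trans (h0.trans (Nat.mul_le_mul_left _ (h.natCard_tail_le (n - k - 1) (k + 1) (by omega))))
  rw [← pow_add] at h1
  have := Nat.pow_le_pow_iff_right hp.out.one_lt |>.1 h1
  omega

/-- an action of a group on points given by a family of maps -/
structure PtAct (X : Type u) [Group X] (P : Type) where
  act : X → P → P
  act_mul : ∀ g h v, act (g * h) v = act g (act h v)
  act_one : ∀ v, act 1 v = v

omit hp in
theorem PtAct.prod_le_card {P : Type} (A : PtAct X P) :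
    ∀ (L : List (P × List X)) (K : Subgroup X), (∀ l ∈ L, ∀ t ∈ l.2, t ∈ K) →
      (L.Pairwise fun l m => ∀ t ∈ m.2, A.act t l.1 = l.1) →
      (∀ l ∈ L, (l.2.map fun t => A.act t l.1).Nodup) →
      (L.map fun l => l.2.length).prod ≤ Nat.card K
  | [], K, _, _, _ => by simpa using Nat.one_le_iff_ne_zero.2 (Nat.card_pos (α := K)).ne'
  | (b, T) :: r, K, hT, hfix, hnd => by
    rw [List.pairwise_cons] at hfix
    let S : Subgroup X :=
      { carrier := {g | g ∈ K ∧ A.act g b = b}
        one_mem' := ⟨one_mem K, A.act_one b⟩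
        mul_mem' := fun {g h} hg hh => ⟨mul_mem hg.1 hh.1, by rw [A.act_mul, hh.2, hg.2]⟩
        inv_mem' := fun {g} hg => ⟨inv_mem hg.1, by
          conv_lhs => rw [← hg.2, ← A.act_mul, inv_mul_cancel, A.act_one]⟩ }
    have hrec := A.prod_le_card r S (fun l hl t ht =>
      ⟨hT l (List.mem_cons_of_mem _ hl) t ht, hfix.1 l hl t ht⟩) hfix.2
      fun l hl => hnd l (List.mem_cons_of_mem _ hl)
    let F : Fin T.length × S → K := fun q =>
      ⟨T[q.1] * q.2.1, mul_mem (hT (b, T) List.mem_cons_self _ (List.getElem_mem q.1.2)) q.2.2.1⟩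
    have hF : Function.Injective F := by
      rintro ⟨i, s⟩ ⟨j, t⟩ e
      have e' : T[i] * s.1 = T[j] * t.1 := congrArg Subtype.val e
      have eb : A.act T[i] b = A.act T[j] b := by
        have := congrArg (fun g => A.act g b) e'
        simpa only [A.act_mul, s.2.2, t.2.2] using this
      have hnd' := hnd (b, T) List.mem_cons_self
      have hij : i = j := Fin.ext (by
        refine (List.Nodup.getElem_inj_iff hnd' (hi := by simp) (hj := by simp)).1 ?_
        simpa using eb)
      subst hij
      exact Prod.ext rfl (Subtype.ext (mul_left_cancel e'))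
    rw [List.map_cons, List.prod_cons]
    refine le_trans ?_ (Nat.card_le_card_of_injective F hF)
    rw [Nat.card_prod, Nat.card_fin]
    exact Nat.mul_le_mul_left _ hrec

namespace Cert

variable {C : Type} {Q : Type u} [Group Q] [Finite Q] {P : Type}

/-- transversal levels as words in the generators, in an action computed on the codes -/
def levelsOK (K : Code Q C) (c : Cert C) (app : C → P → P) (eqp : P → P → Bool)
    (L : List (P × List (List ℕ))) : List P → Bool :=
  match L with
  | [] => fun _ => true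
  | (b, T) :: r => fun prev =>
    let imgs := T.map fun w => (w, w.foldr (fun a v => app (c.σc K a) v) b)
    (T.all fun w => (w.all fun j => Nat.blt j c.n) &&
      prev.all fun q => eqp (w.foldr (fun a v => app (c.σc K a) v) q) q) &&
      nodupB eqp (imgs.map Prod.snd) && levelsOK K c app eqp r (prev ++ [b])
where
  /-- pairwise distinctness -/
  nodupB (eqp : P → P → Bool) : List P → Bool
    | [] => true
    | a :: l => !l.any (eqp a) && nodupB eqp l

theorem nodupB_nodup {eqp : P → P → Bool} (heq : ∀ v w, eqp v w = true ↔ v = w) :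
    ∀ {l : List P}, levelsOK.nodupB eqp l = true → l.Nodup
  | [], _ => List.nodup_nil
  | a :: l, h => by
    simp only [levelsOK.nodupB, Bool.and_eq_true, Bool.not_eq_true', List.any_eq_false] at h
    exact List.nodup_cons.2 ⟨fun hm => h.1 a hm ((heq a a).2 rfl), nodupB_nodup heq h.2⟩

variable {K : Code Q C} {c : Cert C} {p : ℕ} [Fact p.Prime] (hc : c.Core K p)

include hc in
theorem notMem_of_levels (A : PtAct Q P) (app : C → P → P) (eqp : P → P → Bool)
    (happ : ∀ {g x}, K.rep g x → ∀ v, A.act g v = app x v) (heq : ∀ v w, eqp v w = true ↔ v = w)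
    (L : List (P × List (List ℕ))) (hL : levelsOK K c app eqp L [] = true)
    (hprod : p ^ c.n ≤ (L.map fun l => l.2.length).prod) :
    ∀ k < c.n, c.gen K k ∉ tail (c.gen K) c.n (k + 1) := by
  have hw : ∀ (w : List ℕ) v, A.act (Mult.P (c.gen K) w) v = w.foldr (fun a u => app (c.σc K a) u) v := by
    intro w v
    induction w with
    | nil => rw [P_nil, A.act_one]; rfl
    | cons a w ih => rw [P_cons, A.act_mul, ih, List.foldr_cons, happ (rep_gen hc a)]
  have key : ∀ (L : List (P × List (List ℕ))) (prev : List P), levelsOK K c app eqp L prev = true →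
      (∀ l ∈ L, ∀ w ∈ l.2, (∀ j ∈ w, j < c.n) ∧
        ∀ q ∈ prev, A.act (Mult.P (c.gen K) w) q = q) ∧
      (L.Pairwise fun l m => ∀ w ∈ m.2, A.act (Mult.P (c.gen K) w) l.1 = l.1) ∧
      (∀ l ∈ L, (l.2.map fun w => A.act (Mult.P (c.gen K) w) l.1).Nodup) := by
    intro L
    induction L with
    | nil => simp
    | cons l r ih =>
      obtain ⟨b, T⟩ := l
      intro prev h
      simp only [levelsOK, Bool.and_eq_true, List.all_eq_true, Nat.blt_eq, heq] at h
      obtain ⟨⟨hTok, hnd⟩, hr⟩ := h
      obtain ⟨i1, i2, i3⟩ := ih (prev ++ [b]) hr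
      refine ⟨?_, List.pairwise_cons.2 ⟨fun m hm w hw' => (i1 m hm w hw').2 b (by simp), i2⟩, ?_⟩
      · intro l hl w hw'
        rcases List.mem_cons.1 hl with rfl | hl
        · exact ⟨(hTok w hw').1, fun q hq => by rw [hw]; exact (hTok w hw').2 q hq⟩
        · exact ⟨(i1 l hl w hw').1, fun q hq => (i1 l hl w hw').2 q (by simp [hq])⟩
      · intro l hl
        rcases List.mem_cons.1 hl with rfl | hl
        · have := nodupB_nodup heq hnd
          simp only [List.map_map] at this
          simpa only [hw, Function.comp_def] using this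
        · exact i3 l hl
  obtain ⟨k1, k2, k3⟩ := key L [] hL
  refine (isPc_gen hc).notMem_of_card (hprod.trans ?_)
  refine le_trans ?_ (A.prod_le_card (L.map fun l => (l.1, l.2.map (Mult.P (c.gen K))))
    (tail (c.gen K) c.n 0) ?_ ?_ ?_)
  · rw [List.map_map]
    simp [Function.comp_def]
  · simp only [List.mem_map]
    rintro _ ⟨l, hl, rfl⟩ t ht
    obtain ⟨w, hw', rfl⟩ := List.mem_map.1 ht
    have hj := (k1 l hl w hw').1
    clear hw' ht
    induction w with
    | nil => exact one_mem _
    | cons a w ih =>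
      rw [P_cons]
      exact mul_mem (mem_tail _ (Nat.zero_le a) (hj a List.mem_cons_self))
        (ih fun j hj' => hj j (List.mem_cons_of_mem _ hj'))
  · refine List.pairwise_map.2 (k2.imp fun {l m} h t ht => ?_)
    obtain ⟨w, hw', rfl⟩ := List.mem_map.1 ht
    exact h w hw'
  · simp only [List.mem_map]
    rintro _ ⟨l, hl, rfl⟩
    rw [List.map_map]
    exact k3 l hl

end Cert

end CfsgLib.KnownB.Mult
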