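import Cfsg.Agent.Lib.KnownB.Mult.Main
import Cfsg.Agent.Lib.KnownA.MathieuOut.Packed

/-!
Codes for the stabilisers in `Cfsg.M24`.
-/

set_option autoImplicit false

namespace CfsgLib.KnownB.Mult

open Cfsg CfsgLib.Spor CfsgLib.MathieuOut

/-- packed permutations as codes for a stabiliser in `M24` -/
def stabCode (masks prev : List ℕ) (hprev : ∀ b ∈ prev, b < 24) : Code (stabG masks prev) ℕ where
  rep g a := Rep (g : Equiv.Perm GolayPt) a
  mul := compP
  one := idP
  eqc := eqP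
  okc := inStabP masks prev
  rep_mul h h' := h.mul h'
  rep_one := rep_idP
  eq_iff h h' := (eqP_iff h h').trans Subtype.coe_injective.eq_iff
  exists_rep h := by
    obtain ⟨σ, hσ, hr⟩ := repIn_of_inStabP hprev h
    exact ⟨⟨σ, hσ⟩, hr⟩

/-- no prime above `3` divides `2 ^ a * 3 ^ b * M` twice, by a check of the small candidates -/
theorem not_sq_dvd_of_check (a b M B : ℕ)
    (h : ((List.range B).all fun q => Nat.blt q 5 || !Nat.beq (M % (q * q)) 0) = true)
    (hB : M < B * B) (hM : 0 < M) {p : ℕ} (hp : p.Prime) (h2 : p ≠ 2) (h3 : p ≠ 3) :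
    ¬ p ^ 2 ∣ 2 ^ a * 3 ^ b * M := by
  intro hd
  have c2 : Nat.Coprime (p ^ 2) (2 ^ a) :=
    Nat.Coprime.pow _ _ ((Nat.coprime_primes hp Nat.prime_two).2 h2)
  have c3 : Nat.Coprime (p ^ 2) (3 ^ b) :=
    Nat.Coprime.pow _ _ ((Nat.coprime_primes hp Nat.prime_three).2 h3)
  rw [mul_assoc] at hd
  have hd' : p ^ 2 ∣ M := c3.dvd_of_dvd_mul_left (c2.dvd_of_dvd_mul_left hd)
  rw [pow_two] at hd'
  simp only [List.all_eq_true, List.mem_range, Bool.or_eq_true, Nat.blt_eq, Bool.not_eq_true'] at h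
  have h5 : 5 ≤ p := hp.five_le_of_ne_two_of_ne_three h2 h3
  have hpB : p < B := Nat.mul_self_lt_mul_self_iff.1 (lt_of_le_of_lt (Nat.le_of_dvd hM hd') hB)
  rcases h p hpB with h' | h'
  · omega
  · rw [← Bool.not_eq_true, Nat.beq_eq] at h'
    exact h' (Nat.mod_eq_zero_of_dvd hd')

end CfsgLib.KnownB.Mult
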