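import Cfsg.Agent.Lib.KnownB.Mult.Stab
import Cfsg.Agent.Lib.KnownA.MathieuOut.Main

/-! Generated certificates for the multiplier of `M24`. -/

set_option autoImplicit false

namespace CfsgLib.KnownB.Mult.M24

open CfsgLib.MathieuOut

/-- the code -/
def code : Code (CfsgLib.Spor.stabG [] []) ℕ := stabCode [] [] (by decide)

/-- certificate at 2 -/
def cert2 : Cert ℕ where
  n := 10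
  σ := [793334114737452227986815604803444110, 585688855381131070460505412528757068, 427844322288578135043074177845769679, 694009768352314749808353361520592897, 342246907947492054986864727141977728, 840532701426953856749961007821032721, 967067156155473098559964438297392789, 959302962075412715333181226109049909, 965346966670364367458681901213092896, 360866516453156260677176513144130197]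
  rules := [([0, 0], [9]),
    ([1, 1], [3, 5]),
    ([2, 2], []),
    ([3, 3], []),
    ([4, 4], []),
    ([5, 5], []),
    ([6, 6], []),
    ([7, 7], []),
    ([8, 8], []),
    ([9, 9], []),
    ([1, 0], [0, 1, 3, 4, 5, 8, 9]),
    ([2, 0], [0, 2, 5, 7, 8, 9]),
    ([3, 0], [0, 3, 5, 8]),
    ([4, 0], [0, 4, 5, 8, 9]),
    ([5, 0], [0, 5, 9]),
    ([6, 0], [0, 6, 7, 9]),
    ([7, 0], [0, 7]),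
    ([8, 0], [0, 8, 9]),
    ([9, 0], [0, 9]),
    ([2, 1], [1, 2, 3, 5]),
    ([3, 1], [1, 3]),
    ([4, 1], [1, 4, 5, 8, 9]),
    ([5, 1], [1, 5]),
    ([6, 1], [1, 6, 8, 9]),
    ([7, 1], [1, 7, 8, 9]),
    ([8, 1], [1, 8, 9]),
    ([9, 1], [1, 9]),
    ([3, 2], [2, 3]),
    ([4, 2], [2, 4, 5, 9]),
    ([5, 2], [2, 5]),
    ([6, 2], [2, 6]),
    ([7, 2], [2, 7, 9]),
    ([8, 2], [2, 8, 9]),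
    ([9, 2], [2, 9]),
    ([4, 3], [3, 4, 9]),
    ([5, 3], [3, 5]),
    ([6, 3], [3, 6]),
    ([7, 3], [3, 7, 9]),
    ([8, 3], [3, 8]),
    ([9, 3], [3, 9]),
    ([5, 4], [4, 5]),
    ([6, 4], [4, 6, 8]),
    ([7, 4], [4, 7]),
    ([8, 4], [4, 8]),
    ([9, 4], [4, 9]),
    ([6, 5], [5, 6, 9]),
    ([7, 5], [5, 7]),
    ([8, 5], [5, 8]),
    ([9, 5], [5, 9]),
    ([7, 6], [6, 7]),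
    ([8, 6], [6, 8]),
    ([9, 6], [6, 9]),
    ([8, 7], [7, 8]),
    ([9, 7], [7, 9]),
    ([9, 8], [8, 9])]
  conjs := [(843324338793972595151767111393708544, [1], [1, 3, 4, 6, 8]),
    (843324338793972595151767111393708544, [2], [2, 6, 7, 8]),
    (843324338793972595151767111393708544, [3], [5, 8, 9]),
    (843324338793972595151767111393708544, [4], [1, 2, 3, 6, 7, 8, 9]),
    (843324338793972595151767111393708544, [6], [7, 8]),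
    (843324338793972595151767111393708544, [7], [6, 7, 9]),
    (959725100437593383303022996457458314, [0], [0]),
    (959725100437593383303022996457458314, [2], [3, 5, 6, 7, 8, 9]),
    (959725100437593383303022996457458314, [3], [2, 5, 6, 8, 9]),
    (959725100437593383303022996457458314, [4], [0, 2, 3, 4, 5, 6, 9]),
    (959725100437593383303022996457458314, [6], [6, 7]),
    (720087108688082952113447528881821364, [3], [1, 2, 4, 7]),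
    (720087108688082952113447528881821364, [4], [0, 2, 3, 5, 6, 9]),
    (720087108688082952113447528881821364, [5], [4, 7]),
    (720087108688082952113447528881821364, [7], [0, 2, 3, 6]),
    (720087108688082952113447528881821364, [8], [4, 7, 8, 9]),
    (720087108688082952113447528881821364, [1, 2], [3, 5]),
    (720087108688082952113447528881821364, [0, 1, 6], [3, 4, 8, 9])]
  rows := [(.ovl [0] 0 [], [0, 0, 0, 0, 0, 0, 0, 0, 0, 0, 0, 0, 0, 0, 0, 0, 0, 0, 1]),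
    (.ovl [1] 0 [], [0, 0, 0, 1, 1, 0, 0, 0, 0, 1, 0, 0, 1, 1, 1, 0, 0, 1, 1, 0, 0, 0, 0, 0, 0, 0, 1, 0, 0, 0, 0, 0, 0, 0, 1, 1, 0, 0, 1, 1, 0, 0, 0, 0, 0, 0, 0, 0, 0, 0, 0, 0, 0, 0, 1]),
    (.ovl [2] 0 [], [0, 0, 0, 0, 0, 1, 0, 1, 1, 0, 0, 0, 0, 0, 1, 0, 1, 1, 1, 0, 0, 0, 0, 0, 0, 0, 0, 0, 0, 0, 0, 0, 0, 1, 0, 0, 0, 0, 0, 0, 0, 0, 0, 0, 0, 0, 1, 1, 1, 0, 0, 0, 1, 0, 0]),
    (.ovl [3] 0 [], [0, 0, 0, 0, 0, 1, 0, 0, 1, 1, 0, 0, 0, 0, 1, 0, 0, 1, 0, 0, 0, 0, 0, 0, 0, 0, 0, 0, 0, 0, 0, 0, 0, 0, 0, 0, 0, 0, 0, 1, 0, 0, 0, 0, 0, 0, 0, 1, 0, 0, 0, 0, 0, 0, 1]),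
    (.ovl [4] 0 [], [0, 0, 0, 0, 0, 1, 0, 0, 1, 0, 0, 0, 0, 0, 1, 0, 0, 1, 1, 0, 0, 0, 0, 0, 0, 0, 0, 0, 0, 0, 0, 0, 0, 0, 0, 0, 0, 0, 0, 0, 0, 0, 0, 0, 1, 0, 0, 1, 1, 0, 0, 0, 0, 0, 0]),
    (.ovl [5] 0 [], [0, 0, 0, 0, 0, 0, 0, 0, 0, 1, 0, 0, 0, 0, 0, 0, 0, 0, 1, 0, 0, 0, 0, 0, 0, 0, 0, 0, 0, 0, 0, 0, 0, 0, 0, 0, 0, 0, 0, 0, 0, 0, 0, 0, 0, 0, 0, 0, 1]),
    (.ovl [6] 0 [], [0, 0, 0, 0, 0, 0, 0, 1, 0, 1, 0, 0, 0, 0, 0, 0, 1, 0, 1, 0, 0, 0, 0, 0, 0, 0, 0, 0, 0, 0, 0, 0, 0, 0, 0, 0, 0, 0, 0, 0, 0, 0, 0, 0, 0, 0, 0, 0, 0, 0, 0, 1, 0, 1]),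
    (.ovl [7] 0 [], [0, 0, 0, 0, 0, 0, 0, 0, 0, 0, 0, 0, 0, 0, 0, 0, 0, 0, 0, 0, 0, 0, 0, 0, 0, 0, 0, 0, 0, 0, 0, 0, 0, 0, 0, 0, 0, 0, 0, 0, 0, 0, 0, 0, 0, 0, 0, 0, 0, 0, 0, 0, 0, 1]),
    (.ovl [8] 0 [], [0, 0, 0, 0, 0, 0, 0, 0, 0, 1, 0, 0, 0, 0, 0, 0, 0, 0, 1, 0, 0, 0, 0, 0, 0, 0, 0, 0, 0, 0, 0, 0, 0, 0, 0, 0, 0, 0, 0, 0, 0, 0, 0, 0, 0, 0, 0, 0, 0, 0, 0, 0, 0, 0, 1]),
    (.ovl [1] 1 [], [0, 0, 0, 0, 0, 0, 0, 0, 0, 0, 0, 0, 0, 0, 0, 0, 0, 0, 0, 0, 1, 0, 1]),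
    (.ovl [2] 1 [], [0, 0, 0, 1, 0, 1, 0, 0, 0, 0, 0, 0, 0, 0, 0, 0, 0, 0, 0, 0, 1, 0, 1, 0, 0, 0, 0, 1, 0, 1, 0, 0, 0, 0, 0, 1]),
    (.ovl [3] 1 [], [0, 0, 0, 0, 0, 0, 0, 0, 0, 0, 0, 0, 0, 0, 0, 0, 0, 0, 0, 0, 0, 0, 0, 0, 0, 0, 0, 0, 0, 0, 0, 0, 0, 0, 0, 1]),
    (.ovl [4] 1 [], [0, 0, 0, 0, 0, 1, 0, 0, 1, 1, 0, 0, 0, 0, 0, 0, 0, 0, 0, 0, 0, 0, 1, 0, 0, 1, 1, 0, 0, 0, 0, 0, 0, 0, 1, 0, 0, 0, 0, 0, 1, 0, 0, 0, 0, 0, 0, 1, 0, 0, 0, 0, 0, 0, 1]),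
    (.ovl [6] 1 [], [0, 0, 0, 0, 0, 0, 0, 0, 1, 1, 0, 0, 0, 0, 0, 0, 0, 0, 0, 0, 0, 0, 0, 0, 0, 1, 1, 0, 0, 0, 0, 0, 0, 0, 0, 0, 1, 0, 0, 0, 0, 0, 0, 0, 0, 1, 0, 0, 0, 0, 0, 0, 0, 0, 1]),
    (.ovl [7] 1 [], [0, 0, 0, 0, 0, 0, 0, 0, 1, 1, 0, 0, 0, 0, 0, 0, 0, 0, 0, 0, 0, 0, 0, 0, 0, 1, 1, 0, 0, 0, 0, 0, 0, 0, 0, 0, 0, 1, 0, 0, 0, 0, 0, 0, 0, 0, 1, 0, 1, 0, 0, 0, 0, 0, 1]),
    (.ovl [8] 1 [], [0, 0, 0, 0, 0, 0, 0, 0, 0, 1, 0, 0, 0, 0, 0, 0, 0, 0, 0, 0, 0, 0, 0, 0, 0, 0, 1, 0, 0, 0, 0, 0, 0, 0, 0, 0, 0, 0, 1, 0, 0, 0, 0, 0, 0, 0, 0, 1]),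
    (.ovl [9] 1 [], [0, 0, 0, 0, 0, 0, 0, 0, 0, 0, 0, 0, 0, 0, 0, 0, 0, 0, 0, 0, 0, 0, 0, 0, 0, 0, 0, 0, 0, 0, 0, 0, 0, 0, 0, 0, 0, 0, 0, 1, 0, 0, 0, 0, 0, 0, 0, 0, 1]),
    (.ovl [4] 2 [], [0, 0, 0, 0, 0, 1, 0, 0, 0, 1, 0, 0, 0, 0, 0, 0, 0, 0, 0, 0, 0, 0, 0, 0, 0, 0, 0, 0, 0, 1, 0, 0, 0, 1, 0, 0, 0, 0, 0, 0, 0, 0, 0, 0, 0, 0, 0, 0, 1]),
    (.ovl [7] 2 [], [0, 0, 0, 0, 0, 0, 0, 0, 0, 1, 0, 0, 0, 0, 0, 0, 0, 0, 0, 0, 0, 0, 0, 0, 0, 0, 0, 0, 0, 0, 0, 0, 0, 1]),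
    (.ovl [6] 4 [], [0, 0, 0, 0, 0, 0, 0, 0, 1, 0, 0, 0, 0, 0, 0, 0, 0, 0, 0, 0, 0, 0, 0, 0, 0, 0, 0, 0, 0, 0, 0, 0, 0, 0, 0, 0, 0, 0, 0, 0, 0, 0, 0, 1]),
    (.ovl [1] 10 [], [0, 0, 0, 1, 1, 1, 0, 0, 1, 0, 0, 0, 1, 0, 1, 0, 0, 0, 0, 0, 1, 1, 1, 0, 0, 1, 1, 0, 0, 0, 0, 0, 0, 0, 1, 0, 0, 0, 0, 1, 0, 0, 0, 0, 0, 0, 0, 0, 0, 0, 0, 0, 0, 0, 1]),
    (.ovl [2] 10 [], [0, 0, 0, 0, 0, 1, 0, 0, 0, 1, 0, 0, 1, 0, 1, 0, 0, 0, 0, 0, 0, 0, 1, 0, 1, 1, 1, 1, 1, 1, 0, 0, 1, 1, 1, 1, 0, 0, 0, 1, 0, 0, 1, 0, 0, 0, 1, 0, 1, 0, 0, 0, 1, 0, 1]),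
    (.ovl [3] 10 [], [0, 0, 0, 0, 0, 0, 0, 0, 0, 0, 0, 0, 0, 0, 0, 0, 0, 0, 0, 0, 0, 0, 1, 0, 0, 1, 0, 0, 0, 0, 0, 0, 0, 0, 1, 0, 0, 0, 0, 0, 1, 0, 0, 1, 1, 0, 0, 0, 0, 0, 0, 0, 0, 0, 0]),
    (.ovl [4] 10 [], [0, 0, 0, 0, 0, 0, 0, 0, 0, 0, 0, 0, 0, 0, 1, 0, 0, 1, 1, 0, 0, 0, 1, 0, 0, 1, 1, 0, 0, 0, 0, 0, 0, 0, 1, 0, 0, 0, 0, 1, 1, 0, 0, 1, 1, 0, 0, 0, 0, 0, 0, 0, 0, 0, 1]),
    (.ovl [5] 10 [], [0, 0, 0, 0, 0, 0, 0, 0, 0, 0, 0, 0, 0, 0, 0, 0, 0, 0, 0, 0, 0, 0, 0, 0, 0, 0, 1, 0, 0, 0, 0, 0, 0, 0, 0, 1, 0, 0, 0, 1, 1, 0, 0, 0, 1, 0, 0, 1, 0, 0, 0, 0, 0, 0, 1]),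
    (.ovl [6] 10 [], [0, 0, 0, 0, 0, 0, 0, 0, 1, 1, 0, 0, 0, 0, 0, 0, 0, 1, 1, 0, 0, 0, 0, 0, 1, 0, 1, 0, 0, 0, 0, 0, 0, 0, 0, 0, 1, 1, 0, 1, 0, 1, 1, 0, 0, 1, 1, 1, 0, 0, 1, 1, 1, 1, 1]),
    (.ovl [7] 10 [], [0, 0, 0, 0, 0, 0, 0, 0, 0, 0, 0, 0, 0, 0, 0, 0, 0, 1, 1, 0, 0, 0, 0, 0, 0, 0, 0, 0, 0, 0, 0, 0, 0, 0, 0, 0, 0, 1, 1, 1, 0, 0, 1, 1, 0, 0, 1, 1, 0, 0, 0, 0, 1, 1, 0]),
    (.ovl [8] 10 [], [0, 0, 0, 0, 0, 0, 0, 0, 0, 0, 0, 0, 0, 0, 0, 0, 0, 0, 1, 0, 0, 0, 0, 0, 0, 0, 1, 0, 0, 0, 0, 0, 0, 0, 0, 0, 0, 0, 1, 0, 0, 0, 0, 1, 0, 0, 0, 1, 0, 0, 0, 0, 0, 0, 1]),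
    (.ovl [2] 11 [], [0, 0, 0, 0, 0, 1, 0, 1, 1, 0, 0, 0, 0, 0, 0, 0, 0, 0, 0, 0, 0, 0, 0, 0, 0, 0, 0, 0, 0, 1, 0, 1, 1, 1, 0, 0, 0, 0, 0, 0, 0, 0, 0, 0, 0, 0, 1, 1, 1, 0, 0, 0, 1, 1, 0]),
    (.ovl [3] 11 [], [0, 0, 0, 0, 0, 0, 0, 0, 0, 0, 0, 0, 0, 0, 0, 0, 0, 0, 0, 0, 0, 0, 0, 0, 0, 0, 0, 0, 0, 1, 0, 0, 1, 0, 0, 1, 0, 1, 1, 1, 0, 0, 0, 0, 0, 0, 1, 0, 1, 0, 0, 0, 1, 1, 0]),
    (.ovl [4] 11 [], [0, 0, 0, 0, 0, 0, 0, 0, 0, 0, 0, 0, 0, 0, 1, 0, 0, 0, 1, 0, 0, 0, 0, 0, 0, 0, 0, 0, 0, 1, 0, 0, 1, 1, 0, 0, 0, 0, 0, 0, 1, 0, 1, 1, 1, 0, 0, 0, 1, 0, 0, 0, 1, 1, 1]),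
    (.ovl [5] 11 [], [0, 0, 0, 0, 0, 0, 0, 0, 0, 0, 0, 0, 0, 0, 0, 0, 0, 0, 0, 0, 0, 0, 0, 0, 0, 0, 0, 0, 0, 0, 0, 0, 0, 1, 0, 0, 0, 0, 0, 0, 0, 0, 0, 0, 0, 0, 1, 1, 0, 0, 0, 0, 0, 1, 1]),
    (.ovl [6] 11 [], [0, 0, 0, 0, 0, 0, 0, 0, 0, 1, 0, 0, 0, 0, 0, 0, 0, 0, 0, 0, 0, 0, 0, 0, 0, 0, 0, 0, 0, 0, 0, 1, 0, 1, 0, 0, 0, 0, 0, 0, 0, 0, 0, 0, 0, 1, 1, 0, 0, 1, 1, 1, 1, 1, 1]),
    (.ovl [7] 11 [], [0, 0, 0, 0, 0, 0, 0, 0, 0, 0, 0, 0, 0, 0, 0, 0, 0, 0, 1, 0, 0, 0, 0, 0, 0, 0, 0, 0, 0, 0, 0, 0, 0, 0, 0, 0, 0, 0, 0, 0, 0, 0, 0, 0, 0, 0, 1, 0, 1, 0, 0, 0, 1, 0, 1]),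
    (.ovl [6] 12 [], [0, 0, 0, 0, 0, 0, 0, 0, 0, 1, 0, 0, 0, 0, 0, 0, 0, 0, 0, 0, 0, 0, 0, 0, 0, 0, 0, 0, 0, 0, 0, 0, 0, 0, 0, 0, 0, 1, 0, 1, 0, 0, 0, 0, 0, 1, 1, 0, 0, 0, 1, 0, 1, 1, 1]),
    (.ovl [6] 13 [], [0, 0, 0, 0, 0, 0, 0, 0, 0, 0, 0, 0, 0, 0, 0, 0, 0, 1, 0, 0, 0, 0, 0, 0, 0, 0, 0, 0, 0, 0, 0, 0, 0, 0, 0, 0, 0, 0, 0, 0, 0, 0, 1, 0, 1, 1, 1, 1, 1, 0, 1, 1, 0, 0, 1]),
    (.ovl [6] 23 [], [0, 0, 0, 0, 0, 0, 0, 0, 1, 1, 0, 0, 0, 0, 0, 0, 0, 0, 0, 0, 0, 0, 0, 0, 0, 0, 0, 0, 0, 0, 0, 0, 0, 0, 0, 0, 0, 0, 0, 0, 0, 0, 0, 0, 0, 0, 0, 0, 0, 0, 1, 1, 0, 0, 1]),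
    (.cnj 0 [1, 1] [], [0, 0, 0, 0, 0, 0, 1, 1, 1, 1, 0, 0, 0, 0, 0, 0, 0, 0, 0, 0, 0, 0, 0, 0, 0, 0, 0, 0, 0, 0, 1, 1, 1, 0, 0, 0, 0, 0, 0, 0, 0, 0, 0, 0, 0, 0, 0, 0, 0, 1, 1, 0, 1, 0, 1, 0, 0]),
    (.cnj 0 [2, 1] [1, 2], [0, 0, 0, 0, 0, 0, 0, 0, 0, 0, 0, 0, 0, 0, 0, 0, 0, 0, 0, 0, 0, 0, 0, 0, 0, 0, 0, 1, 0, 1, 0, 0, 1, 1, 0, 0, 0, 0, 0, 0, 0, 0, 0, 0, 0, 1, 1, 1, 0, 0, 1, 0, 1, 1, 0, 0, 0, 0]),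
    (.cnj 0 [3, 3] [], [0, 1, 1, 0, 1, 1, 1, 1, 0, 0, 0, 0, 0, 0, 0, 0, 0, 0, 0, 1, 1, 0, 0, 1, 1, 1, 1, 0, 0, 1, 1, 1, 1, 0, 0, 1, 1, 1, 1, 0, 0, 0, 0, 0, 0, 0, 0, 0, 0, 1, 1, 1, 0, 0, 0, 0, 0, 0, 0]),
    (.cnj 0 [4, 1] [1, 4], [0, 0, 0, 0, 0, 0, 0, 0, 0, 1, 0, 0, 0, 0, 0, 0, 0, 0, 0, 0, 0, 0, 0, 0, 0, 0, 0, 0, 0, 0, 1, 1, 1, 0, 0, 0, 0, 0, 0, 0, 0, 0, 0, 0, 0, 0, 0, 0, 0, 1, 1, 0, 0, 0, 1, 0, 0, 0, 0, 0]),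
    (.cnj 0 [5, 3] [3, 5], [0, 0, 0, 0, 0, 0, 0, 0, 1, 0, 0, 0, 0, 0, 0, 0, 0, 0, 0, 0, 0, 0, 0, 1, 1, 0, 1, 0, 0, 0, 1, 1, 0, 1, 0, 0, 1, 1, 0, 0, 0, 0, 1, 0, 0, 0, 0, 0, 0, 0, 1, 0, 0, 1, 0, 0, 0, 0, 0, 0, 0]),
    (.cnj 6 [7, 7] [], [0, 0, 1, 1, 0, 1, 1, 1, 1, 0, 0, 0, 0, 0, 0, 0, 0, 0, 0, 0, 0, 0, 0, 0, 0, 0, 0, 0, 0, 0, 0, 0, 0, 0, 0, 1, 1, 1, 1, 1, 0, 0, 0, 0, 0, 1, 1, 1, 0, 1, 1, 1, 1, 0, 1, 0, 0, 0, 0, 0, 0, 0, 0]),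
    (.cnj 6 [9, 9] [], [1, 0, 1, 1, 0, 1, 1, 1, 0, 0, 0, 1, 1, 1, 1, 1, 0, 0, 1, 0, 0, 0, 0, 0, 0, 0, 0, 1, 1, 0, 1, 0, 1, 0, 1, 0, 1, 1, 0, 1, 1, 1, 1, 1, 1, 1, 1, 0, 0, 1, 1, 0, 1, 0, 0, 0, 0, 0, 0, 0, 0, 0, 0, 0, 0]),
    (.cnj 6 [8, 9, 6] [6, 9, 8], [0, 0, 0, 0, 0, 0, 0, 1, 1, 1, 0, 1, 0, 0, 0, 1, 0, 0, 0, 0, 0, 0, 0, 0, 0, 0, 0, 1, 1, 1, 0, 0, 0, 0, 1, 0, 1, 0, 0, 1, 0, 1, 0, 0, 1, 0, 1, 0, 1, 1, 0, 0, 1, 0, 1, 0, 0, 0, 0, 0, 0, 0, 0, 0, 0]),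
    (.cnj 6 [9, 7, 9, 7] [7, 9, 7, 9], [0, 0, 0, 0, 0, 1, 0, 1, 0, 1, 0, 0, 0, 0, 1, 0, 1, 0, 1, 0, 0, 0, 0, 0, 0, 0, 0, 0, 0, 0, 0, 1, 0, 0, 0, 0, 0, 0, 1, 1, 0, 0, 1, 1, 0, 0, 0, 1, 0, 0, 0, 0, 1, 1, 0, 0, 0, 0, 0, 0, 0, 0, 0, 0, 0]),
    (.cnj 11 [11, 11] [], [0, 1, 1, 0, 1, 0, 0, 1, 1, 0, 0, 0, 0, 0, 0, 0, 0, 0, 0, 1, 0, 1, 0, 0, 1, 0, 0, 1, 1, 0, 0, 1, 0, 0, 0, 1, 0, 0, 0, 0, 0, 0, 1, 0, 0, 0, 0, 0, 1, 0, 0, 0, 1, 0, 1, 0, 0, 0, 0, 0, 0, 0, 0, 0, 0, 0, 0]),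
    (.cnj 11 [12, 12] [], [1, 0, 1, 1, 1, 0, 1, 1, 1, 0, 0, 1, 1, 0, 1, 1, 0, 0, 1, 0, 0, 0, 0, 0, 0, 0, 0, 1, 0, 1, 1, 0, 0, 1, 0, 0, 1, 1, 1, 0, 0, 0, 0, 0, 0, 1, 0, 1, 1, 1, 0, 1, 0, 1, 1, 0, 0, 0, 0, 0, 0, 0, 0, 0, 0, 0, 0, 0]),
    (.cnj 11 [13, 11] [11, 13], [0, 0, 0, 0, 0, 1, 0, 0, 1, 0, 0, 0, 0, 0, 0, 0, 0, 0, 0, 0, 0, 1, 0, 0, 1, 0, 0, 0, 1, 1, 0, 1, 0, 0, 0, 1, 0, 0, 0, 0, 0, 0, 0, 0, 0, 0, 0, 0, 1, 0, 0, 0, 1, 0, 1, 0, 0, 0, 0, 0, 0, 0, 0, 0, 0, 0, 0, 0, 0])]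
  lam := [[], [], [], [1, 1, 0, 0, 0, 0, 0, 0, 0, 0, 0, 0, 1, 0, 0, 0, 0, 0, 0, 0, 0, 0, 0, 1], [0, 1, 0, 0, 0, 0, 0, 0, 0, 0, 1, 0, 0, 0, 0, 0, 0, 0, 0, 0, 0, 0, 0, 1], [1, 0, 0, 0, 0, 0, 0, 0, 0, 0, 0, 0, 1, 0, 0, 0, 0, 0, 0, 0, 0, 0, 0, 1], [], [1, 0, 0, 0, 0, 0, 0, 0, 0, 0, 0, 1, 1], [1, 0, 0, 0, 0, 0, 0, 0, 0, 0, 0, 0, 0, 0, 0, 0, 0, 0, 0, 0, 0, 0, 0, 1], [1]]
  combos := [[],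
    [],
    [(0, 1), (2, 1), (7, 1), (9, 1), (10, 1), (11, 1), (12, 1), (13, 1), (14, 1), (17, 1), (19, 1), (23, 1), (24, 1), (26, 1), (27, 1), (30, 1), (31, 1), (32, 1), (33, 1), (34, 1), (35, 1), (36, 1), (37, 1), (38, 1), (40, 1), (42, 1), (45, 1)],
    [(0, 1), (2, 1), (5, 1), (6, 1), (7, 1), (9, 1), (10, 1), (12, 1), (16, 1), (17, 1), (23, 1), (26, 1), (29, 1), (31, 1), (35, 1), (38, 1)],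
    [(1, 1), (4, 1), (5, 1), (6, 1), (7, 1), (8, 1), (11, 1), (13, 1), (18, 1), (19, 1), (20, 1), (23, 1), (24, 1), (25, 1), (26, 1), (28, 1), (29, 1), (30, 1), (31, 1), (32, 1), (34, 1), (35, 1), (37, 1), (38, 1), (39, 1), (40, 1), (41, 1), (43, 1), (45, 1), (46, 1), (47, 1)],
    [(2, 1), (3, 1), (4, 1), (5, 1), (6, 1), (8, 1), (15, 1), (19, 1), (24, 1), (29, 1), (30, 1), (34, 1), (35, 1)],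
    [(2, 1), (3, 1), (4, 1), (8, 1), (11, 1), (12, 1), (22, 1), (26, 1), (27, 1), (28, 1), (29, 1), (37, 1), (40, 1), (45, 1)],
    [(2, 1), (3, 1), (4, 1), (7, 1), (8, 1), (11, 1), (12, 1), (15, 1), (18, 1), (19, 1), (23, 1), (24, 1), (28, 1), (30, 1), (45, 1)],
    [(8, 1), (15, 1), (19, 1), (27, 1)],
    [(4, 1), (8, 1), (12, 1), (15, 1), (16, 1), (23, 1), (27, 1)],
    [],
    [],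
    [],
    [(0, 1), (4, 1), (5, 1), (11, 1), (12, 1), (13, 1), (14, 1), (15, 1), (16, 1), (17, 1), (19, 1), (22, 1), (24, 1), (27, 1), (28, 1), (29, 1), (33, 1), (35, 1), (40, 1), (42, 1), (43, 1), (44, 1)],
    [(1, 1), (4, 1), (5, 1), (6, 1), (8, 1), (9, 1), (11, 1), (13, 1), (18, 1), (19, 1), (20, 1), (21, 1), (22, 1), (24, 1), (27, 1), (28, 1), (30, 1), (31, 1), (33, 1), (38, 1), (40, 1), (42, 1), (43, 1), (44, 1), (45, 1), (48, 1)],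
    [(7, 1), (9, 1), (11, 1), (12, 1), (16, 1), (19, 1), (21, 1), (23, 1), (25, 1), (29, 1), (31, 1), (37, 1), (38, 1), (39, 1), (40, 1), (41, 1), (44, 1), (46, 1), (48, 1)],
    [(0, 1), (5, 1), (7, 1), (11, 1), (19, 1), (24, 1), (27, 1), (28, 1), (30, 1), (33, 1), (45, 1)],
    [(1, 1), (2, 1), (4, 1), (9, 1), (11, 1), (12, 1), (13, 1), (15, 1), (18, 1), (19, 1), (20, 1), (21, 1), (24, 1), (26, 1), (27, 1), (28, 1), (30, 1), (34, 1), (35, 1), (38, 1), (40, 1), (42, 1), (43, 1), (44, 1), (45, 1), (48, 1)],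
    [(0, 1)],
    [(0, 1), (3, 1), (4, 1), (6, 1), (7, 1), (11, 1), (12, 1), (13, 1), (15, 1), (16, 1), (17, 1), (19, 1), (20, 1), (21, 1), (23, 1), (26, 1), (29, 1), (34, 1), (36, 1), (38, 1), (39, 1), (41, 1), (42, 1), (45, 1), (48, 1)],
    [(0, 1), (2, 1), (4, 1), (6, 1), (7, 1), (14, 1), (16, 1), (17, 1), (18, 1), (26, 1), (27, 1), (28, 1), (29, 1), (31, 1), (32, 1), (34, 1), (35, 1), (37, 1), (38, 1), (39, 1), (40, 1), (41, 1), (46, 1), (48, 1)],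
    [(2, 1), (3, 1), (5, 1), (6, 1), (7, 1), (10, 1), (11, 1), (12, 1), (14, 1), (15, 1), (18, 1), (20, 1), (21, 1), (22, 1), (23, 1), (24, 1), (25, 1), (28, 1), (29, 1), (31, 1), (34, 1), (40, 1), (42, 1), (44, 1), (47, 1)],
    [(0, 1), (2, 1), (4, 1), (6, 1), (7, 1), (9, 1), (14, 1), (16, 1), (17, 1), (18, 1), (26, 1), (27, 1), (28, 1), (29, 1), (31, 1), (32, 1), (34, 1), (35, 1), (37, 1), (38, 1), (39, 1), (40, 1), (41, 1), (46, 1), (48, 1)],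
    [],
    [(0, 1), (1, 1), (2, 1), (3, 1), (5, 1), (9, 1), (10, 1), (15, 1), (16, 1), (21, 1), (23, 1), (25, 1), (26, 1), (29, 1), (31, 1), (32, 1), (36, 1), (40, 1), (41, 1), (43, 1), (45, 1), (47, 1)],
    [(0, 1), (4, 1), (6, 1), (7, 1), (8, 1), (10, 1), (15, 1), (17, 1), (20, 1), (22, 1), (23, 1), (24, 1), (25, 1), (26, 1), (27, 1), (28, 1), (30, 1), (31, 1), (33, 1), (38, 1), (40, 1), (42, 1), (44, 1), (45, 1), (47, 1), (48, 1)],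
    [(0, 1), (2, 1), (6, 1), (12, 1), (15, 1), (16, 1), (23, 1), (26, 1), (31, 1), (33, 1), (34, 1), (35, 1)],
    [(2, 1), (4, 1), (6, 1), (7, 1), (8, 1), (11, 1), (15, 1), (18, 1), (26, 1), (27, 1), (29, 1), (31, 1), (35, 1), (38, 1)],
    [(0, 1), (1, 1), (6, 1), (7, 1), (9, 1), (10, 1), (12, 1), (16, 1), (19, 1), (23, 1), (25, 1), (27, 1), (30, 1), (31, 1), (32, 1), (35, 1), (36, 1), (38, 1), (40, 1), (41, 1), (43, 1), (45, 1), (47, 1)],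
    [(0, 1), (2, 1), (3, 1), (6, 1), (12, 1), (16, 1), (17, 1), (18, 1), (19, 1), (23, 1), (24, 1), (27, 1), (29, 1), (30, 1), (34, 1), (35, 1)],
    [(3, 1), (4, 1), (5, 1), (7, 1), (11, 1), (12, 1), (16, 1), (17, 1), (22, 1), (27, 1), (29, 1), (32, 1), (33, 1), (34, 1), (36, 1), (40, 1)],
    [(0, 1), (4, 1), (7, 1), (10, 1), (12, 1), (14, 1), (16, 1), (17, 1), (18, 1), (20, 1), (23, 1), (25, 1), (27, 1), (28, 1), (29, 1), (31, 1), (34, 1), (35, 1), (38, 1), (40, 1), (42, 1), (44, 1), (47, 1), (48, 1)],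
    [(2, 1), (3, 1), (4, 1), (7, 1), (8, 1), (10, 1), (11, 1), (12, 1), (14, 1), (15, 1), (20, 1), (22, 1), (25, 1), (26, 1), (27, 1), (28, 1), (34, 1), (35, 1), (38, 1), (40, 1), (42, 1), (44, 1), (45, 1), (47, 1), (48, 1)],
    [(4, 1), (8, 1), (12, 1), (15, 1), (16, 1), (18, 1), (23, 1), (27, 1)],
    [(0, 1), (6, 1), (9, 1), (10, 1), (11, 1), (12, 1), (14, 1), (15, 1), (16, 1), (18, 1), (20, 1), (22, 1), (23, 1), (24, 1), (25, 1), (27, 1), (32, 1), (33, 1), (37, 1), (39, 1), (41, 1), (42, 1), (44, 1), (45, 1), (46, 1), (47, 1)],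
    [(11, 1)],
    [(2, 1), (3, 1), (5, 1), (6, 1), (7, 1), (13, 1), (14, 1), (15, 1), (19, 1), (22, 1), (23, 1), (24, 1), (26, 1), (27, 1), (29, 1), (30, 1), (33, 1), (34, 1), (36, 1)],
    [(0, 1), (2, 1), (10, 1), (14, 1), (17, 1), (18, 1), (19, 1), (20, 1), (25, 1), (26, 1), (27, 1), (28, 1), (29, 1), (33, 1), (34, 1), (35, 1), (38, 1), (40, 1), (42, 1), (44, 1), (45, 1), (47, 1), (48, 1)],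
    [(0, 1), (2, 1), (4, 1), (5, 1), (6, 1), (15, 1), (22, 1), (23, 1), (24, 1), (27, 1), (29, 1), (30, 1), (34, 1), (35, 1)],
    [(0, 1), (4, 1), (5, 1), (8, 1), (12, 1), (15, 1), (23, 1), (27, 1)],
    [(0, 1), (2, 1), (3, 1), (4, 1), (6, 1), (8, 1), (11, 1), (12, 1), (15, 1), (16, 1), (22, 1), (29, 1), (30, 1), (34, 1), (35, 1)],
    [(1, 1), (3, 1), (7, 1), (9, 1), (13, 1), (15, 1), (16, 1), (17, 1), (19, 1), (20, 1), (21, 1), (23, 1), (25, 1), (26, 1), (28, 1), (32, 1), (33, 1), (34, 1), (35, 1), (38, 1), (41, 1), (42, 1), (43, 1), (44, 1), (48, 1)],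
    [(0, 1), (1, 1), (2, 1), (4, 1), (6, 1), (7, 1), (9, 1), (10, 1), (11, 1), (13, 1), (14, 1), (17, 1), (21, 1), (23, 1), (24, 1), (25, 1), (27, 1), (29, 1), (30, 1), (31, 1), (33, 1), (34, 1), (35, 1), (43, 1), (47, 1)],
    [(8, 1), (15, 1), (27, 1)],
    [(3, 1), (4, 1), (8, 1), (16, 1)],
    [(0, 1), (3, 1), (4, 1), (5, 1), (6, 1), (8, 1), (10, 1), (12, 1), (14, 1), (16, 1), (17, 1), (20, 1), (23, 1), (25, 1), (26, 1), (27, 1), (28, 1), (29, 1), (33, 1), (35, 1), (36, 1), (38, 1), (40, 1), (42, 1), (44, 1), (45, 1), (47, 1), (48, 1)],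
    [(0, 1), (5, 1), (7, 1), (18, 1), (22, 1), (23, 1), (24, 1), (26, 1), (29, 1), (30, 1), (33, 1)],
    [(5, 1), (8, 1), (22, 1), (23, 1), (24, 1), (26, 1), (29, 1), (30, 1), (31, 1), (33, 1)],
    [(0, 1), (4, 1), (5, 1), (8, 1), (12, 1), (15, 1), (16, 1), (23, 1), (27, 1)],
    [(0, 1), (3, 1), (4, 1), (6, 1), (12, 1), (16, 1), (19, 1), (23, 1), (26, 1), (31, 1), (32, 1), (34, 1), (45, 1)],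
    [(0, 1), (2, 1), (3, 1), (5, 1), (6, 1), (7, 1), (15, 1), (16, 1), (18, 1), (19, 1), (27, 1), (33, 1), (36, 1)],
    [(2, 1), (3, 1), (5, 1), (6, 1), (7, 1), (16, 1), (18, 1), (33, 1)],
    [(7, 1), (8, 1), (18, 1), (22, 1), (23, 1), (24, 1), (26, 1), (29, 1), (30, 1)],
    [(7, 1)],
    [(0, 1), (4, 1), (12, 1), (15, 1), (16, 1), (23, 1), (27, 1)]]

theorem cert2_gen : cert2.genOK code = true := by decide +kernel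
theorem cert2_rel : cert2.relOK code = true := by decide +kernel
theorem cert2_pc : cert2.pcOK 2 = true := by decide +kernel
theorem cert2_indep : cert2.indepOK code 2 = true := by decide +kernel
theorem cert2_rows : cert2.rowsOK code 2 = true := by decide +kernel
theorem cert2_target : cert2.targetOK 2 = true := by decide +kernel

theorem cert2_valid : cert2.Valid code 2 :=
  ⟨cert2_gen, cert2_rel, cert2_pc, cert2_indep, cert2_rows, cert2_target⟩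

/-- certificate at 3 -/
def cert3 : Cert ℕ where
  n := 3
  σ := [182389151236779135388892199817332753, 390197451365538625496464326088141841, 845909096714379752222248023081948192]
  rules := [([0, 0, 0], []),
    ([1, 1, 1], []),
    ([2, 2, 2], []),
    ([1, 0], [0, 1, 2]),
    ([2, 0], [0, 2]),
    ([2, 1], [1, 2])]
  conjs := [(356351294848886138738631305879567361, [0], [0, 0, 2, 2]),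
    (356351294848886138738631305879567361, [1], [1, 1, 2])]
  rows := [(.ovl [1] 0 [], [0, 0, 1, 0, 0]),
    (.cnj 0 [0, 0, 0] [], [1, 0, 2, 0, 0, 0, 0]),
    (.cnj 0 [1, 1, 1] [], [0, 1, 1, 0, 0, 0, 0, 0]),
    (.cnj 0 [1, 0, 0, 1] [0, 1, 1, 0], [0, 0, 2, 0, 1, 1, 0, 0]),
    (.cnj 0 [1, 0, 1, 0] [0, 0, 1, 1], [0, 0, 1, 0, 1, 2, 0, 0])]
  lam := [[], [], [0, 0, 0, 1]]
  combos := [[(0, 2), (1, 2)],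
    [(0, 1), (2, 2)],
    [(0, 2)],
    [],
    [(3, 1), (4, 1)],
    [(0, 2), (3, 1), (4, 2)]]

theorem cert3_gen : cert3.genOK code = true := by decide +kernel
theorem cert3_rel : cert3.relOK code = true := by decide +kernel
theorem cert3_pc : cert3.pcOK 3 = true := by decide +kernel
theorem cert3_indep : cert3.indepOK code 3 = true := by decide +kernel
theorem cert3_rows : cert3.rowsOK code 3 = true := by decide +kernel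
theorem cert3_target : cert3.targetOK 3 = true := by decide +kernel

theorem cert3_valid : cert3.Valid code 3 :=
  ⟨cert3_gen, cert3_rel, cert3_pc, cert3_indep, cert3_rows, cert3_target⟩

end CfsgLib.KnownB.Mult.M24
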