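import Cfsg.Agent.Lib.KnownB.Mult.Chunks

/-!
Collection with the rules sorted by the first letter of their left sides, agreeing with `collect`.
-/

set_option autoImplicit false

namespace CfsgLib.KnownB.Mult

/-- numbered rules -/
abbrev Bucket := List (ℕ × List ℕ × List ℕ)

/-- number the rules from `i` -/
def numR : RuleList → ℕ → Bucket
  | [], _ => []
  | r :: l, i => (i, r.1, r.2) :: numR l (i + 1)

/-- apply the first applicable numbered rule -/
def findB : Bucket → List ℕ → Option (ℕ × List ℕ)
  | [], _ => none
  | q :: l, w => match strip q.2.1 w with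
    | some r => some (q.1, q.2.2 ++ r)
    | none => findB l w

/-- the left side may apply to a word beginning with `a` -/
def headOK (a : ℕ) : List ℕ → Bool
  | [] => true
  | b :: _ => Nat.beq b a

/-- buckets for the first `m` letters -/
def mkB (R : RuleList) (m : ℕ) : List Bucket :=
  (List.range m).map fun a => (numR R 0).filter fun q => headOK a q.2.1

theorem findB_numR : ∀ (R : RuleList) (i : ℕ) (w : List ℕ), findB (numR R i) w = findRule R i w
  | [], _, _ => rfl
  | r :: l, i, w => by
    rw [numR, findB, findRule, findB_numR l (i + 1) w]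
    rfl

theorem findB_filter (a : ℕ) (w : List ℕ) : ∀ l : Bucket,
    findB (l.filter fun q => headOK a q.2.1) (a :: w) = findB l (a :: w)
  | [] => rfl
  | q :: l => by
    obtain ⟨i, v, r⟩ := q
    cases h : headOK a v
    · rw [List.filter_cons_of_neg (by simp [h]), findB_filter a w l]
      conv_rhs => rw [findB]
      cases v with
      | nil => simp [headOK] at h
      | cons b v =>
        have : strip (b :: v) (a :: w) = none := by
          simp only [headOK] at h
          simp [strip, h]
        simp only [this]
    · rw [List.filter_cons_of_pos (by simp [h]), findB, findB, findB_filter a w l]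

/-- the first rule applicable at the front, by buckets -/
def findF (R : RuleList) (B : List Bucket) : List ℕ → Option (ℕ × List ℕ)
  | [] => none
  | a :: w => bif Nat.blt a B.length then findB (B.getD a []) (a :: w) else findRule R 0 (a :: w)

theorem findF_eq {R : RuleList} {B : List Bucket} {m : ℕ} (hB : B = mkB R m) (a : ℕ) (w : List ℕ) :
    findF R B (a :: w) = findRule R 0 (a :: w) := by
  rw [findF]
  cases h : Nat.blt a B.length
  · rfl
  · rw [Nat.blt_eq] at h
    rw [cond_true, List.getD_eq_getElem _ _ h]
    subst hB
    have h' : a < m := by simpa [mkB] using h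
    simp only [mkB, List.getElem_map, List.getElem_range, findB_filter, findB_numR]

/-- rewrite the leftmost redex, by buckets -/
def stepF (R : RuleList) (B : List Bucket) : List ℕ → Option (ℕ × List ℕ)
  | [] => none
  | a :: w => match findF R B (a :: w) with
    | some r => some r
    | none => match stepF R B w with
      | some r => some (r.1, a :: r.2)
      | none => none

theorem stepF_eq {R : RuleList} {B : List Bucket} {m : ℕ} (hB : B = mkB R m) :
    ∀ w, stepF R B w = stepW R w
  | [] => rfl
  | a :: w => by rw [stepF, stepW, findF_eq hB, stepF_eq hB w]; rfl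

/-- repeated rewriting, by buckets -/
def collectF (R : RuleList) (B : List Bucket) : ℕ → List ℕ → List ℕ × List ℕ
  | 0, w => ([], w)
  | n + 1, w => match stepF R B w with
    | none => ([], w)
    | some r => let c := collectF R B n r.2; (r.1 :: c.1, c.2)

theorem collectF_eq {R : RuleList} {B : List Bucket} {m : ℕ} (hB : B = mkB R m) :
    ∀ n w, collectF R B n w = collect R n w
  | 0, _ => rfl
  | n + 1, w => by
    rw [collectF, collect, stepF_eq hB]
    cases stepW R w with
    | none => rfl
    | some r => simp only [collectF_eq hB n r.2]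

namespace Cert

universe u

variable {C : Type} {Q : Type u} [Group Q] (K : Code Q C) (c : Cert C) (p : ℕ)
  (col : ℕ → List ℕ → List ℕ × List ℕ)

/-- check of a row with a collection function -/
def rowG (r : Spec × List ℕ) : Bool :=
  match r.1 with
  | .ovl pre i post =>
    Nat.blt i c.rules.length &&
      let A := col fuel (pre ++ (c.rules.getD i ([], [])).1 ++ post)
      let B := col fuel (pre ++ (c.rules.getD i ([], [])).2 ++ post)
      eqW A.2 B.2 &&
        eqW r.2 (addV p (vecOf p A.1) (smulV p (p - 1) (vecOf p (i :: B.1))))
  | .cnj k0 w1 w2 =>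
    Nat.blt k0 c.conjs.length &&
      ((w1 ++ w2).all fun k => Nat.blt k c.conjs.length && K.eqc (c.gc K k0) (c.gc K k)) &&
      let S1 := col fuel (w1.flatMap (c.src K))
      let S2 := col fuel (w2.flatMap (c.src K))
      let I1 := col fuel (w1.flatMap (c.img K))
      let I2 := col fuel (w2.flatMap (c.img K))
      eqW S1.2 S2.2 && eqW I1.2 I2.2 &&
        eqW r.2 (addV p
          (vecOf p (w1.map (c.rules.length + ·) ++ I1.1 ++ S2.1))
          (smulV p (p - 1) (vecOf p (w2.map (c.rules.length + ·) ++ I2.1 ++ S1.1))))

/-- check of a row by buckets -/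
def rowB (B : List Bucket) (r : Spec × List ℕ) : Bool := c.rowG K p (collectF c.rules B) r

theorem rowF_of_rowB {B : List Bucket} {m : ℕ} (hB : B = mkB c.rules m) (r : Spec × List ℕ)
    (h : c.rowB K p B r = true) : c.rowF K p r = true := by
  have e : collectF c.rules B = collect c.rules := funext fun n => funext fun w => collectF_eq hB n w
  rw [rowB, e] at h
  obtain ⟨sp, v⟩ := r
  cases sp with
  | ovl pre i post =>
    simp only [rowG, Bool.and_eq_true] at h
    simp only [rowF, specOK, rowVec, Bool.and_eq_true]
    exact ⟨⟨h.1, h.2.1⟩, h.2.2⟩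
  | cnj k0 w1 w2 =>
    simp only [rowG, Bool.and_eq_true] at h
    simp only [rowF, specOK, rowVec, Bool.and_eq_true]
    exact ⟨⟨⟨⟨h.1.1, h.1.2⟩, h.2.1.1⟩, h.2.1.2⟩, h.2.2⟩

theorem all_rowF_of_rowB {B : List Bucket} {m : ℕ} (hB : B = mkB c.rules m)
    {l : List (Spec × List ℕ)} (h : l.all (c.rowB K p B) = true) : l.all (c.rowF K p) = true :=
  List.all_eq_true.2 fun r hr => rowF_of_rowB K c p hB r (List.all_eq_true.1 h r hr)

end Cert

end CfsgLib.KnownB.Mult
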