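import Cfsg.Agent.Lib.KnownB.Mult.Main

/-!
Certificate checks from checks of pieces of the lists, to keep each kernel evaluation small.
-/

set_option autoImplicit false

namespace CfsgLib.KnownB.Mult

/-- a piece of a list -/
def piece {α : Type} (l : List α) (k i : ℕ) : List α := (l.drop (k * i)).take k

theorem all_of_pieces {α : Type} (f : α → Bool) (k : ℕ) :
    ∀ (n : ℕ) (l : List α), (∀ i < n, (piece l k i).all f = true) → l.length ≤ k * n →
      l.all f = true
  | 0, l, _, hl => by simp [List.eq_nil_of_length_eq_zero (by simpa using hl)]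
  | n + 1, l, h, hl => by
    have h0 := h 0 (Nat.succ_pos n)
    simp only [piece, mul_zero, List.drop_zero] at h0
    have hrest := all_of_pieces f k n (l.drop k) (fun i hi => by
        have := h (i + 1) (by omega)
        rwa [piece, Nat.mul_succ, add_comm, ← List.drop_drop] at this)
      (by rw [List.length_drop, Nat.mul_succ] at *; omega)
    conv_lhs => rw [← List.take_append_drop k l]
    rw [List.all_append, h0, hrest, Bool.and_self]

namespace Cert

universe u

variable {C : Type} {Q : Type u} [Group Q] (K : Code Q C) (c : Cert C) (p : ℕ)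

/-- check of a rule -/
def ruleF (r : List ℕ × List ℕ) : Bool := K.eqc (c.ev K r.1) (c.ev K r.2)

/-- check of a conjugator -/
def cnjF (k : ℕ) : Bool :=
  K.eqc (K.mul (c.gc K k) (c.ev K (c.src K k))) (K.mul (c.ev K (c.img K k)) (c.gc K k))

/-- check of a row -/
def rowF (r : Spec × List ℕ) : Bool := c.specOK K r.1 && eqW r.2 (c.rowVec K p r.1)

/-- check of a target -/
def tgtF (i : ℕ) : Bool :=
  isZeroV p (addV p
    (addV p (unitV i) (addV p (c.lamV p (c.rules.getD i ([], [])).1)
      (smulV p (p - 1) (c.lamV p (c.rules.getD i ([], [])).2))))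
    (c.comb p (c.combos.getD i []))) &&
  (c.combos.getD i []).all fun q => Nat.blt q.1 c.rows.length

/-- check of a conjugator code -/
def okCnjF (q : C × List ℕ × List ℕ) : Bool := K.okc q.1

theorem relOK_of (h1 : c.rules.all (c.ruleF K) = true)
    (h2 : (List.range c.conjs.length).all (c.cnjF K) = true) : c.relOK K = true :=
  Bool.and_eq_true_iff.2 ⟨h1, h2⟩

theorem genOK_of (h1 : c.σ.all K.okc = true) (h2 : c.conjs.all (okCnjF K) = true) :
    c.genOK K = true :=
  Bool.and_eq_true_iff.2 ⟨h1, h2⟩

theorem rowsOK_of (h : c.rows.all (c.rowF K p) = true) : c.rowsOK K p = true := h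

theorem targetOK_of (h : (List.range c.rules.length).all (c.tgtF p) = true) :
    c.targetOK p = true := h

end Cert

end CfsgLib.KnownB.Mult
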