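import Cfsg.Agent.Lib.KnownB.Mult.Levels
import Cfsg.Agent.Lib.Spor.Co0Main

/-!
Codes for subgroups of `Cfsg.Co0`: matrices modulo `13`, packed column by column.
-/

set_option autoImplicit false
set_option maxRecDepth 100000

namespace CfsgLib.KnownB.Mult

open Cfsg CfsgLib.Spor
open CfsgLib.ThreeTransp.CoReduce

/-- pack digits of 16 bits -/
def packD : List ℕ → ℕ
  | [] => 0
  | a :: l => a + 65536 * packD l

/-- the digit at a position -/
def digD (v i : ℕ) : ℕ := v >>> (16 * i) % 65536

theorem digD_packD : ∀ (l : List ℕ), (∀ a ∈ l, a < 65536) → ∀ i, digD (packD l) i = l.getD i 0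
  | [], _, i => by simp [packD, digD]
  | a :: l, h, 0 => by
    have := h a List.mem_cons_self
    simp [packD, digD, Nat.add_mul_mod_self_left, Nat.mod_eq_of_lt this]
  | a :: l, h, i + 1 => by
    have ha := h a List.mem_cons_self
    have e : packD (a :: l) >>> (16 * (i + 1)) = packD l >>> (16 * i) := by
      rw [mul_add, add_comm, Nat.shiftRight_add, packD]
      congr 1
      rw [Nat.shiftRight_eq_div_pow]
      omega
    rw [digD, e, List.getD_cons_succ]
    exact digD_packD l (fun b hb => h b (List.mem_cons_of_mem _ hb)) i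

theorem packD_lin (a : ℕ → ℕ) (b : ℕ → ℕ) (c : ℕ) : ∀ l : List ℕ,
    packD (l.map a) + c * packD (l.map b) = packD (l.map fun i => a i + c * b i)
  | [] => rfl
  | i :: l => by
    simp only [List.map_cons, packD, ← packD_lin a b c l]
    ring

/-- the positions -/
def pos : List ℕ := List.range 24

theorem getD_pos {f : ℕ → ℕ} {i : ℕ} (h : i < 24) : (pos.map f).getD i 0 = f i := by
  simp [pos, h]

/-- weighted sum of packed columns -/
def combD (v : ℕ) : List ℕ → ℕ → ℕ
  | [], _ => 0
  | m :: ms, k => digD v k * m + combD v ms (k + 1)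

/-- reduce the digits -/
def redD (acc : ℕ) : ℕ := packD (pos.map fun i => digD acc i % 13)

/-- a matrix applied to a vector -/
def mulV (m : List ℕ) (v : ℕ) : ℕ := redD (combD v m 0)

theorem combD_map (v : ℕ) (f : ℕ → ℕ → ℕ) : ∀ (ls : List ℕ) (k : ℕ) (a : ℕ → ℕ),
    packD (pos.map a) + combD v (ls.map fun j => packD (pos.map (f j))) k =
      packD (pos.map fun i => a i + ((List.range ls.length).map fun t => digD v (k + t) * f (ls.getD t 0) i).sum)
  | [], k, a => by simp [combD]
  | j :: ls, k, a => by
    rw [List.map_cons, combD, ← add_assoc, packD_lin, combD_map v f ls (k + 1)]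
    refine congrArg packD (List.map_congr_left fun i _ => ?_)
    rw [List.length_cons, List.range_succ_eq_map, List.map_cons, List.sum_cons, List.map_map]
    simp only [List.getD_cons_zero, add_zero, Function.comp_def, List.getD_cons_succ, ← add_assoc]
    congr 3
    funext t
    rw [show k + (t + 1) = k + 1 + t by omega]

theorem mulV_map (v : ℕ) (f : ℕ → ℕ → ℕ) (hv : ∀ k < 24, digD v k < 13)
    (hf : ∀ j i, f j i < 13) :
    mulV (pos.map fun j => packD (pos.map (f j))) v =
      packD (pos.map fun i => (∑ k ∈ Finset.range 24, digD v k * f k i) % 13) := by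
  have h0 : packD (pos.map fun _ => 0) = 0 := by decide
  have h := combD_map v f pos 0 (fun _ => 0)
  rw [h0, zero_add] at h
  rw [mulV, redD, h]
  refine congrArg packD (List.map_congr_left fun i hi => ?_)
  have hsum : ∀ i, ((List.range pos.length).map fun t => digD v (0 + t) * f (pos.getD t 0) i).sum =
      ∑ k ∈ Finset.range 24, digD v k * f k i := fun i => by
    rw [← List.sum_toFinset _ (List.nodup_range), List.toFinset_range]
    refine Finset.sum_congr (by simp [pos]) fun t ht => ?_
    have ht' : t < 24 := by simpa [pos] using ht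
    rw [zero_add]
    simp [pos, ht']
  have hi' : i < 24 := List.mem_range.1 hi
  simp only [zero_add] at hsum ⊢
  rw [digD_packD, getD_pos hi', hsum]
  intro a ha
  obtain ⟨i, -, rfl⟩ := List.mem_map.1 ha
  rw [hsum]
  have hb : ∀ k ∈ Finset.range 24, digD v k * f k i ≤ 12 * 12 := fun k hk =>
    Nat.mul_le_mul (Nat.le_of_lt_succ (hv k (Finset.mem_range.1 hk))) (Nat.le_of_lt_succ (hf k i))
  have := Finset.sum_le_card_nsmul _ _ _ hb
  simp only [Finset.card_range, smul_eq_mul] at this
  omega

/-- vectors as packed digits -/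
def encV (x : V13) : ℕ := packD (pos.map fun i => (x (pt i)).val)

/-- packed digits as vectors -/
def decV (v : ℕ) : V13 := fun q => (digD v (idx q) : ZMod 13)

theorem digD_encV (x : V13) {i : ℕ} (hi : i < 24) : digD (encV x) i = (x (pt i)).val := by
  rw [encV, digD_packD, getD_pos hi]
  intro a ha
  obtain ⟨j, -, rfl⟩ := List.mem_map.1 ha
  exact lt_trans (ZMod.val_lt _) (by norm_num)

theorem decV_encV (x : V13) : decV (encV x) = x := by
  funext q
  rw [decV, digD_encV x (idx_lt q), ZMod.natCast_rightInverse, pt_idx]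

/-- canonical packed vectors -/
def canonD (v : ℕ) : Bool :=
  ((pos.all fun i => Nat.blt (digD v i) 13) && Nat.beq (packD (pos.map (digD v))) v)

theorem canonD_encV (x : V13) : canonD (encV x) = true := by
  simp only [canonD, Bool.and_eq_true, List.all_eq_true, Nat.blt_eq, Nat.beq_eq]
  refine ⟨fun i hi => ?_, ?_⟩
  · rw [digD_encV x (List.mem_range.1 hi)]; exact ZMod.val_lt _
  · rw [encV]
    refine congrArg packD (List.map_congr_left fun i hi => ?_)
    exact digD_encV x (List.mem_range.1 hi)

theorem encV_decV {v : ℕ} (h : canonD v = true) : encV (decV v) = v := by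
  simp only [canonD, Bool.and_eq_true, List.all_eq_true, Nat.blt_eq, Nat.beq_eq] at h
  conv_rhs => rw [← h.2]
  refine congrArg packD (List.map_congr_left fun i hi => ?_)
  rw [decV, idx_pt (List.mem_range.1 hi), ZMod.val_natCast, Nat.mod_eq_of_lt (h.1 i hi)]

/-- the columns of the reduction of a map -/
noncomputable def colsOf (f : Equiv.Perm leechLattice) : List ℕ :=
  pos.map fun j => encV (redMap f (Pi.single (pt j) 1))

theorem mulV_colsOf (f : Equiv.Perm leechLattice) (x : V13) :
    mulV (colsOf f) (encV x) = encV (redMap f x) := by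
  have h := mulV_map (encV x) (fun j i => (redMap f (Pi.single (pt j) 1) (pt i)).val)
    (fun k hk => by rw [digD_encV x hk]; exact ZMod.val_lt _) (fun j i => ZMod.val_lt _)
  have e : colsOf f = pos.map fun j =>
      packD (pos.map ((fun j i => (redMap f (Pi.single (pt j) 1) (pt i)).val) j)) := rfl
  rw [e, h]
  rw [encV.eq_def (redMap f x)]
  refine congrArg packD (List.map_congr_left fun i hi => ?_)
  rw [← ZMod.val_natCast, Nat.cast_sum]
  refine congrArg ZMod.val ?_
  have hx : x = ∑ k ∈ Finset.range 24, x (pt k) • (Pi.single (pt k) 1 : V13) := by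
    funext q
    rw [Finset.sum_apply, Finset.sum_eq_single (idx q)]
    · simp [pt_idx]
    · intro k hk hne
      have : q ≠ pt k := fun e => hne (by rw [e, idx_pt (Finset.mem_range.1 hk)])
      simp [this]
    · intro h; exact absurd (Finset.mem_range.2 (idx_lt q)) h
  conv_rhs => rw [hx, map_sum, Finset.sum_apply]
  refine Finset.sum_congr rfl fun k hk => ?_
  rw [digD_encV x (Finset.mem_range.1 hk), Nat.cast_mul, ZMod.natCast_rightInverse, ZMod.natCast_rightInverse, map_smul, Pi.smul_apply,
    smul_eq_mul]

/-- product of packed matrices -/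
def mulM (g h : List ℕ) : List ℕ := h.map (mulV g)

theorem colsOf_mul {f g : Equiv.Perm leechLattice} (hf : f ∈ Co0) :
    colsOf (f * g) = mulM (colsOf f) (colsOf g) := by
  conv_rhs => rw [mulM]; arg 2; rw [colsOf]
  rw [colsOf, List.map_map]
  refine List.map_congr_left fun j _ => ?_
  rw [Function.comp_apply, mulV_colsOf, redMap_mul hf]
  rfl

/-- the identity -/
def oneM : List ℕ := pos.map fun j => packD (pos.map fun i => if i = j then 1 else 0)

theorem colsOf_one : colsOf 1 = oneM := by
  refine List.map_congr_left fun j hj => ?_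
  rw [redMap_one, Module.End.one_apply, encV]
  refine congrArg packD (List.map_congr_left fun i hi => ?_)
  by_cases h : i = j
  · subst h; rw [if_pos rfl, Pi.single_eq_same]; rfl
  · have : pt i ≠ pt j := fun e => h (by
      rw [← idx_pt (List.mem_range.1 hi), e, idx_pt (List.mem_range.1 hj)])
    rw [if_neg h, Pi.single_eq_of_ne this]; rfl

theorem colsOf_injective {f g : Equiv.Perm leechLattice} (hf : f ∈ Co0) (hg : g ∈ Co0)
    (h : colsOf f = colsOf g) : f = g := by
  have hcol : ∀ q : GolayPt, redMap f (Pi.single q 1) = redMap g (Pi.single q 1) := by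
    intro q
    have h1 := (List.map_inj_left.1 h) (idx q) (List.mem_range.2 (idx_lt q))
    have h2 := congrArg decV h1
    rwa [decV_encV, decV_encV, pt_idx] at h2
  have hm : redMap f = redMap g := LinearMap.pi_ext' fun q => LinearMap.ext_ring (hcol q)
  have h1 : g⁻¹ * f ∈ Co0 := Co0.mul_mem (Co0.inv_mem hg) hf
  have h2 : redMap (g⁻¹ * f) = 1 := by
    rw [redMap_mul (Co0.inv_mem hg), hm, ← redMap_mul (Co0.inv_mem hg), inv_mul_cancel, redMap_one]
  refine (inv_mul_eq_one.1 ?_).symm
  have hfix : ∀ i, (g⁻¹ * f) (bigE i) = bigE i := by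
    intro i
    set w : leechLattice := (g⁻¹ * f) (bigE i) with hw
    have hr := redMap_red h1 (bigE i)
    rw [h2, Module.End.one_apply, ← hw] at hr
    have hoff : ∀ j, j ≠ i → (w : GolayPt → ℤ) j = 0 := by
      intro j hj
      have hb := abs_le_eight h1 i j
      rw [← hw] at hb
      have := congrFun hr j
      simp only [red, bigE, AddMonoidHom.coe_mk, ZeroHom.coe_mk, Pi.single_eq_of_ne hj,
        Int.cast_zero] at this
      have h13 : (13 : ℤ) ∣ (w : GolayPt → ℤ) j := (ZMod.intCast_zmod_eq_zero_iff_dvd _ 13).1 this.symm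
      obtain ⟨t, ht⟩ := h13
      rw [ht] at hb ⊢
      have : t = 0 := by nlinarith [sq_nonneg (t - 1), sq_nonneg (t + 1)]
      rw [this, mul_zero]
    have hn := h1.2 (bigE i)
    rw [← hw, sqNorm, sqNorm, Finset.sum_eq_single i (fun j _ hj => by rw [hoff j hj]; rfl) (by simp),
      Finset.sum_eq_single i (fun j _ hj => by simp [bigE, Pi.single_eq_of_ne hj]) (by simp)] at hn
    have hd := congrFun hr i
    simp only [red, bigE, AddMonoidHom.coe_mk, ZeroHom.coe_mk, Pi.single_eq_same] at hd
    simp only [bigE, Pi.single_eq_same] at hn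
    refine Subtype.ext (funext fun j => ?_)
    by_cases hj : j = i
    · subst hj
      show _ = (Pi.single j 8 : GolayPt → ℤ) j
      rw [Pi.single_eq_same]
      rcases sq_eq_sq_iff_eq_or_eq_neg.1 hn with h8 | h8
      · exact h8
      · rw [h8] at hd
        exact absurd hd (by decide)
    · rw [hoff j hj]
      show _ = (Pi.single i 8 : GolayPt → ℤ) j
      rw [Pi.single_eq_of_ne hj]
  exact eq_one_of_fixes h1 hfix

/-- the matrix of a program -/
def progMat (P : List Stp) : List ℕ :=
  pos.map fun j => packD ((runP P (pos.map fun i => if i = j then (8 : ℤ) else 0)).map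
    fun x => (5 * x % 13).toNat)

theorem colsOf_prog {g : Co0} {P : List Stp} (h : ActsAs g (runP P)) :
    colsOf (g : Equiv.Perm leechLattice) = progMat P := by
  refine List.map_congr_left fun j hj => ?_
  have hj' := List.mem_range.1 hj
  have h1 := h (bigE (pt j))
  have hl : lOf ((bigE (pt j) : leechLattice) : GolayPt → ℤ) =
      pos.map fun i => if i = j then (8 : ℤ) else 0 := by
    refine List.map_congr_left fun i hi => ?_
    show (Pi.single (pt j) 8 : GolayPt → ℤ) (pt i) = _
    by_cases e : i = j
    · subst e; rw [if_pos rfl, Pi.single_eq_same]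
    · have : pt i ≠ pt j := fun e' => e (by
        rw [← idx_pt (List.mem_range.1 hi), e', idx_pt hj'])
      rw [if_neg e, Pi.single_eq_of_ne this]
  rw [hl] at h1
  rw [← h1, encV, lOf, List.map_map]
  refine congrArg packD (List.map_congr_left fun i _ => ?_)
  rw [redMap_single, Function.comp_apply]
  show ((8 : ZMod 13)⁻¹ * (((g • bigE (pt j) : leechLattice) : GolayPt → ℤ) (pt i) : ZMod 13)).val = _
  generalize ((g • bigE (pt j) : leechLattice) : GolayPt → ℤ) (pt i) = x
  rw [show ((8 : ZMod 13)⁻¹) = ((5 : ℤ) : ZMod 13) from inv_eq_of_mul_eq_one_right (by decide),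
    ← Int.cast_mul,
    ← Int.toNat_natCast (ZMod.val _), ZMod.val_intCast]
  rfl

/-- the matrix of a program, step by step -/
def fastMat : List Stp → List ℕ
  | [] => oneM
  | st :: r => mulM (fastMat r) (progMat [st])

theorem exists_prog_fast : ∀ {P : List Stp}, P.all Stp.ok = true →
    ∃ g : Co0, ActsAs g (runP P) ∧ colsOf (g : Equiv.Perm leechLattice) = fastMat P
  | [], _ => ⟨1, fun v => by rw [one_smul]; rfl, by
      rw [OneMemClass.coe_one, colsOf_one]; rfl⟩
  | st :: r, h => by
    simp only [List.all_cons, Bool.and_eq_true] at h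
    obtain ⟨g, hg, hgm⟩ := exists_prog_fast h.2
    obtain ⟨g', -, hg'⟩ := exists_prog (P := [st]) (by simp [h.1])
    refine ⟨g * g', fun v => ?_, ?_⟩
    · rw [mul_smul, hg, hg']; rfl
    · rw [Subgroup.coe_mul, colsOf_mul g.2, hgm, colsOf_prog hg', fastMat]

/-- codes for a subgroup of `Co0` cut out by a condition on programs -/
noncomputable def coCode (H : Subgroup (Equiv.Perm leechLattice)) (hH : H ≤ Co0) (fixOK : List Stp → Bool)
    (hfix : ∀ (g : Co0) (P : List Stp), ActsAs g (runP P) → fixOK P = true →
      (g : Equiv.Perm leechLattice) ∈ H) : Code H (List ℕ × List Stp) where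
  rep g m := colsOf (g : Equiv.Perm leechLattice) = m.1
  mul m m' := (mulM m.1 m'.1, [])
  one := (oneM, [])
  eqc m m' := eqW m.1 m'.1
  okc m := m.2.all Stp.ok && eqW (fastMat m.2) m.1 && fixOK m.2
  rep_mul {a b x y} h h' := by
    rw [Subgroup.coe_mul, colsOf_mul (hH a.2), h, h']
  rep_one := colsOf_one
  eq_iff {a b x y} h h' := by
    rw [eqW_iff, ← h, ← h']
    exact ⟨fun e => Subtype.ext (colsOf_injective (hH a.2) (hH b.2) e), fun e => by rw [e]⟩
  exists_rep {x} h := by
    simp only [Bool.and_eq_true, eqW_iff] at h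
    obtain ⟨g, hg, hgm⟩ := exists_prog_fast h.1.1
    exact ⟨⟨(g : Equiv.Perm leechLattice), hfix g _ hg h.2⟩, hgm.trans h.1.2⟩

/-- a code applied to a packed vector -/
def appC (m : List ℕ × List Stp) (v : ℕ) : ℕ := bif canonD v then mulV m.1 v else v

/-- the action on packed vectors -/
noncomputable def coPtAct (H : Subgroup (Equiv.Perm leechLattice)) (hH : H ≤ Co0) : PtAct H ℕ where
  act g v := bif canonD v then encV (redMap (g : Equiv.Perm leechLattice) (decV v)) else v
  act_mul g h v := by
    cases hv : canonD v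
    · simp [hv]
    · simp [canonD_encV, decV_encV, redMap_mul (hH g.2)]
  act_one v := by
    cases hv : canonD v
    · simp
    · simp [redMap_one, encV_decV hv]

theorem coPtAct_app {H : Subgroup (Equiv.Perm leechLattice)} (hH : H ≤ Co0) {g : H}
    {m : List ℕ × List Stp} (h : colsOf (g : Equiv.Perm leechLattice) = m.1) (v : ℕ) :
    (coPtAct H hH).act g v = appC m v := by
  show (bif canonD v then _ else v) = _
  cases hv : canonD v
  · simp [appC, hv]
  · simp only [appC, hv, cond_true]
    rw [← h, ← mulV_colsOf, encV_decV hv]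

/-- orbit-stabiliser for a stabiliser inside a subgroup -/
theorem natCard_inf_stab {G Y : Type*} [Group G] [MulAction G Y] (H : Subgroup G) (y : Y) :
    Nat.card ↥(H ⊓ MulAction.stabilizer G y) * (MulAction.orbit H y).ncard = Nat.card H := by
  rw [← MulAction.index_stabilizer, ← Subgroup.card_mul_index (MulAction.stabilizer H y)]
  congr 1
  rw [← Nat.card_congr (Subgroup.subgroupOfEquivOfLe
    (inf_le_left : H ⊓ MulAction.stabilizer G y ≤ H)).toEquiv, Subgroup.inf_subgroupOf_left]
  rfl

/-- the order of the stabiliser of a vector of norm `n` -/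
theorem natCard_co0_stab {n : ℤ} (hn : n = 32 ∨ n = 48 ∨ n = 64) (v : leechLattice)
    (hv : sqNorm (v : GolayPt → ℤ) = n) {c N : ℕ}
    (hc : {x : GolayPt → ℤ | x ∈ leechLattice ∧ sqNorm x = n}.ncard = c) (hc0 : 0 < c)
    (hN : c * N = 8315553613086720000) :
    Nat.card ↥(Co0 ⊓ MulAction.stabilizer (Equiv.Perm leechLattice) v) = N := by
  have h := natCard_inf_stab Co0 v
  have horb : MulAction.orbit Co0 v = normSet n := by
    ext w
    constructor
    · rintro ⟨g, rfl⟩; exact (coe_smul_sqNorm g v).trans hv
    · exact fun hw => exists_map hn v w hv hw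
  rw [horb, ncard_normSet hc, natCard_Co0, ← hN, mul_comm c] at h
  exact Nat.eq_of_mul_eq_mul_right hc0 h

end CfsgLib.KnownB.Mult
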