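import Cfsg.Agent.Lib.KnownB.Mult.Co0Code
import Cfsg.Agent.Lib.Spor.LeechCount

/-!
Codes and orders of `Cfsg.Spor.Co2` and `Cfsg.Spor.Co3`.
-/

set_option autoImplicit false
set_option maxRecDepth 100000

namespace CfsgLib.KnownB.Mult

open Cfsg CfsgLib.Spor

/-- equality of integer lists -/
def eqZ : List ℤ → List ℤ → Bool
  | [], [] => true
  | a :: v, b :: w => decide (a = b) && eqZ v w
  | _, _ => false

theorem eqZ_iff : ∀ {v w : List ℤ}, eqZ v w = true ↔ v = w
  | [], [] => by simp [eqZ]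
  | [], _ :: _ => by simp [eqZ]
  | _ :: _, [] => by simp [eqZ]
  | a :: v, b :: w => by simp [eqZ, eqZ_iff (v := v) (w := w)]

/-- coordinates of `vecU` -/
def lU : List ℤ := [4, 0, 0, 0, 0, 0, 0, 0, 0, 0, 0, 0, 0, 0, 0, 0, 0, 0, 0, 0, 0, 0, 0, 4]

/-- coordinates of `vecV` -/
def lV : List ℤ :=
  [-1, -1, -1, -1, -1, -1, -1, -1, -1, -1, -1, -1, -1, -1, -1, -1, -1, -1, -1, -1, -1, -1, -1, -5]

theorem lOf_U : lOf ((Cfsg.Spor.leechU : leechLattice) : GolayPt → ℤ) = lU := by decide +kernel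

theorem lOf_V : lOf ((Cfsg.Spor.leechV : leechLattice) : GolayPt → ℤ) = lV := by decide +kernel

theorem smul_eq_of_fix {v : leechLattice} {l : List ℤ} (hv : lOf ((v : leechLattice) : GolayPt → ℤ) = l)
    (g : Co0) (P : List Stp) (hg : ActsAs g (runP P)) (h : eqZ (runP P l) l = true) :
    (g : Equiv.Perm leechLattice) ∈ Co0 ⊓ MulAction.stabilizer (Equiv.Perm leechLattice) v := by
  refine ⟨g.2, MulAction.mem_stabilizer_iff.2 ?_⟩
  show g • v = v
  refine Subtype.ext (lOf_inj ?_)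
  rw [hg, hv, eqZ_iff.1 h]

/-- codes for `Co2` -/
noncomputable def co2Code : Code Cfsg.Spor.Co2 (List ℕ × List Stp) :=
  coCode Cfsg.Spor.Co2 inf_le_left (fun P => eqZ (runP P lU) lU) (smul_eq_of_fix lOf_U)

/-- codes for `Co3` -/
noncomputable def co3Code : Code Cfsg.Spor.Co3 (List ℕ × List Stp) :=
  coCode Cfsg.Spor.Co3 inf_le_left (fun P => eqZ (runP P lV) lV) (smul_eq_of_fix lOf_V)

theorem natCard_Co2 : Nat.card Cfsg.Spor.Co2 = 42305421312000 :=
  natCard_co0_stab (n := 32) (by norm_num) Cfsg.Spor.leechU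
    (by decide +kernel) ncard_norm_32 (by norm_num) (by norm_num)

theorem natCard_Co3 : Nat.card Cfsg.Spor.Co3 = 495766656000 :=
  natCard_co0_stab (n := 48) (by norm_num) Cfsg.Spor.leechV
    (by decide +kernel) ncard_norm_48 (by norm_num) (by norm_num)

theorem primeCond_of_levels {H : Subgroup (Equiv.Perm leechLattice)} [Finite H] {hH : H ≤ Co0}
    {fixOK : List Stp → Bool}
    {hfix : ∀ (g : Co0) (P : List Stp), ActsAs g (runP P) → fixOK P = true →
      (g : Equiv.Perm leechLattice) ∈ H}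
    {p : ℕ} [Fact p.Prime] (c : Cert (List ℕ × List Stp))
    (hc : c.Core (coCode H hH fixOK hfix) p) (L : List (ℕ × List (List ℕ)))
    (hL : Cert.levelsOK (coCode H hH fixOK hfix) c appC Nat.beq L [] = true)
    (hprod : p ^ c.n ≤ (L.map fun l => l.2.length).prod) {m : ℕ}
    (hN : Nat.card H = p ^ c.n * m) (hm : ¬ p ∣ m) : PrimeCond H p :=
  Cert.primeCond_of_notMem hc
    (Cert.notMem_of_levels hc (coPtAct H hH) appC Nat.beq (fun h v => coPtAct_app hH h v)
      (fun _ _ => Nat.beq_eq ▸ Iff.rfl) L hL hprod) hN hm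

instance : Finite Cfsg.Spor.Co2 := Nat.finite_of_card_ne_zero (by rw [natCard_Co2]; norm_num)

instance : Finite Cfsg.Spor.Co3 := Nat.finite_of_card_ne_zero (by rw [natCard_Co3]; norm_num)

end CfsgLib.KnownB.Mult
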