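import Cfsg.Agent.Lib.KnownB.Mult.Co0P2Data
import Cfsg.Agent.Lib.KnownB.Mult.Chunks

/-! Checks of the certificate at `2` for `Co0`. -/

set_option autoImplicit false
set_option maxRecDepth 100000
set_option Elab.async false

namespace CfsgLib.KnownB.Mult.Co0P2

open CfsgLib.Spor

theorem genC6 : (piece cert.conjs 8 6).all (Cert.okCnjF co0Code) = true := by decide +kernel
theorem genC7 : (piece cert.conjs 8 7).all (Cert.okCnjF co0Code) = true := by decide +kernel
theorem genC8 : (piece cert.conjs 8 8).all (Cert.okCnjF co0Code) = true := by decide +kernel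

end CfsgLib.KnownB.Mult.Co0P2
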