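import Cfsg.Agent.Lib.KnownB.Mult.Co0P2Data
import Cfsg.Agent.Lib.KnownB.Mult.Chunks

/-! Checks of the certificate at `2` for `Co0`. -/

set_option autoImplicit false
set_option maxRecDepth 100000
set_option Elab.async false

namespace CfsgLib.KnownB.Mult.Co0P2

open CfsgLib.Spor

theorem rowsC0 : (piece cert.rows 4 0).all (cert.rowB co0Code 2 buckets) = true := by decide +kernel
theorem rowsC1 : (piece cert.rows 4 1).all (cert.rowB co0Code 2 buckets) = true := by decide +kernel
theorem rowsC2 : (piece cert.rows 4 2).all (cert.rowB co0Code 2 buckets) = true := by decide +kernel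
theorem rowsC3 : (piece cert.rows 4 3).all (cert.rowB co0Code 2 buckets) = true := by decide +kernel
theorem rowsC4 : (piece cert.rows 4 4).all (cert.rowB co0Code 2 buckets) = true := by decide +kernel
theorem rowsC5 : (piece cert.rows 4 5).all (cert.rowB co0Code 2 buckets) = true := by decide +kernel
theorem rowsC6 : (piece cert.rows 4 6).all (cert.rowB co0Code 2 buckets) = true := by decide +kernel
theorem rowsC7 : (piece cert.rows 4 7).all (cert.rowB co0Code 2 buckets) = true := by decide +kernel
theorem rowsC8 : (piece cert.rows 4 8).all (cert.rowB co0Code 2 buckets) = true := by decide +kernel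
theorem rowsC9 : (piece cert.rows 4 9).all (cert.rowB co0Code 2 buckets) = true := by decide +kernel
theorem rowsC10 : (piece cert.rows 4 10).all (cert.rowB co0Code 2 buckets) = true := by decide +kernel
theorem rowsC11 : (piece cert.rows 4 11).all (cert.rowB co0Code 2 buckets) = true := by decide +kernel
theorem rowsC12 : (piece cert.rows 4 12).all (cert.rowB co0Code 2 buckets) = true := by decide +kernel
theorem rowsC13 : (piece cert.rows 4 13).all (cert.rowB co0Code 2 buckets) = true := by decide +kernel
theorem rowsC14 : (piece cert.rows 4 14).all (cert.rowB co0Code 2 buckets) = true := by decide +kernel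
theorem rowsC15 : (piece cert.rows 4 15).all (cert.rowB co0Code 2 buckets) = true := by decide +kernel
theorem rowsC16 : (piece cert.rows 4 16).all (cert.rowB co0Code 2 buckets) = true := by decide +kernel
theorem rowsC17 : (piece cert.rows 4 17).all (cert.rowB co0Code 2 buckets) = true := by decide +kernel
theorem rowsC18 : (piece cert.rows 4 18).all (cert.rowB co0Code 2 buckets) = true := by decide +kernel
theorem rowsC19 : (piece cert.rows 4 19).all (cert.rowB co0Code 2 buckets) = true := by decide +kernel
theorem rowsC20 : (piece cert.rows 4 20).all (cert.rowB co0Code 2 buckets) = true := by decide +kernel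
theorem rowsC21 : (piece cert.rows 4 21).all (cert.rowB co0Code 2 buckets) = true := by decide +kernel
theorem rowsC22 : (piece cert.rows 4 22).all (cert.rowB co0Code 2 buckets) = true := by decide +kernel
theorem rowsC23 : (piece cert.rows 4 23).all (cert.rowB co0Code 2 buckets) = true := by decide +kernel
theorem rowsC24 : (piece cert.rows 4 24).all (cert.rowB co0Code 2 buckets) = true := by decide +kernel
theorem rowsC25 : (piece cert.rows 4 25).all (cert.rowB co0Code 2 buckets) = true := by decide +kernel
theorem rowsC26 : (piece cert.rows 4 26).all (cert.rowB co0Code 2 buckets) = true := by decide +kernel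
theorem rowsC27 : (piece cert.rows 4 27).all (cert.rowB co0Code 2 buckets) = true := by decide +kernel
theorem rowsC28 : (piece cert.rows 4 28).all (cert.rowB co0Code 2 buckets) = true := by decide +kernel
theorem rowsC29 : (piece cert.rows 4 29).all (cert.rowB co0Code 2 buckets) = true := by decide +kernel
theorem rowsC30 : (piece cert.rows 4 30).all (cert.rowB co0Code 2 buckets) = true := by decide +kernel
theorem rowsC31 : (piece cert.rows 4 31).all (cert.rowB co0Code 2 buckets) = true := by decide +kernel
theorem rowsC32 : (piece cert.rows 4 32).all (cert.rowB co0Code 2 buckets) = true := by decide +kernel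
theorem rowsC33 : (piece cert.rows 4 33).all (cert.rowB co0Code 2 buckets) = true := by decide +kernel
theorem rowsC34 : (piece cert.rows 4 34).all (cert.rowB co0Code 2 buckets) = true := by decide +kernel
theorem rowsC35 : (piece cert.rows 4 35).all (cert.rowB co0Code 2 buckets) = true := by decide +kernel
theorem rowsC36 : (piece cert.rows 4 36).all (cert.rowB co0Code 2 buckets) = true := by decide +kernel
theorem rowsC37 : (piece cert.rows 4 37).all (cert.rowB co0Code 2 buckets) = true := by decide +kernel
theorem rowsC38 : (piece cert.rows 4 38).all (cert.rowB co0Code 2 buckets) = true := by decide +kernel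
theorem rowsC39 : (piece cert.rows 4 39).all (cert.rowB co0Code 2 buckets) = true := by decide +kernel
theorem rowsC40 : (piece cert.rows 4 40).all (cert.rowB co0Code 2 buckets) = true := by decide +kernel
theorem rowsC41 : (piece cert.rows 4 41).all (cert.rowB co0Code 2 buckets) = true := by decide +kernel
theorem rowsC42 : (piece cert.rows 4 42).all (cert.rowB co0Code 2 buckets) = true := by decide +kernel
theorem rowsC43 : (piece cert.rows 4 43).all (cert.rowB co0Code 2 buckets) = true := by decide +kernel
theorem rowsC44 : (piece cert.rows 4 44).all (cert.rowB co0Code 2 buckets) = true := by decide +kernel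
theorem rowsC45 : (piece cert.rows 4 45).all (cert.rowB co0Code 2 buckets) = true := by decide +kernel
theorem rowsC46 : (piece cert.rows 4 46).all (cert.rowB co0Code 2 buckets) = true := by decide +kernel
theorem rowsC47 : (piece cert.rows 4 47).all (cert.rowB co0Code 2 buckets) = true := by decide +kernel
theorem rowsC48 : (piece cert.rows 4 48).all (cert.rowB co0Code 2 buckets) = true := by decide +kernel
theorem rowsC49 : (piece cert.rows 4 49).all (cert.rowB co0Code 2 buckets) = true := by decide +kernel
theorem rowsC50 : (piece cert.rows 4 50).all (cert.rowB co0Code 2 buckets) = true := by decide +kernel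
theorem rowsC51 : (piece cert.rows 4 51).all (cert.rowB co0Code 2 buckets) = true := by decide +kernel
theorem rowsC52 : (piece cert.rows 4 52).all (cert.rowB co0Code 2 buckets) = true := by decide +kernel
theorem rowsC53 : (piece cert.rows 4 53).all (cert.rowB co0Code 2 buckets) = true := by decide +kernel
theorem rowsC54 : (piece cert.rows 4 54).all (cert.rowB co0Code 2 buckets) = true := by decide +kernel
theorem rowsC55 : (piece cert.rows 4 55).all (cert.rowB co0Code 2 buckets) = true := by decide +kernel
theorem rowsC56 : (piece cert.rows 4 56).all (cert.rowB co0Code 2 buckets) = true := by decide +kernel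
theorem rowsC57 : (piece cert.rows 4 57).all (cert.rowB co0Code 2 buckets) = true := by decide +kernel
theorem rowsC58 : (piece cert.rows 4 58).all (cert.rowB co0Code 2 buckets) = true := by decide +kernel
theorem rowsC59 : (piece cert.rows 4 59).all (cert.rowB co0Code 2 buckets) = true := by decide +kernel
theorem rowsC60 : (piece cert.rows 4 60).all (cert.rowB co0Code 2 buckets) = true := by decide +kernel
theorem rowsC61 : (piece cert.rows 4 61).all (cert.rowB co0Code 2 buckets) = true := by decide +kernel
theorem rowsC62 : (piece cert.rows 4 62).all (cert.rowB co0Code 2 buckets) = true := by decide +kernel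
theorem rowsC63 : (piece cert.rows 4 63).all (cert.rowB co0Code 2 buckets) = true := by decide +kernel
theorem rowsC64 : (piece cert.rows 4 64).all (cert.rowB co0Code 2 buckets) = true := by decide +kernel
theorem rowsC65 : (piece cert.rows 4 65).all (cert.rowB co0Code 2 buckets) = true := by decide +kernel
theorem rowsC66 : (piece cert.rows 4 66).all (cert.rowB co0Code 2 buckets) = true := by decide +kernel

end CfsgLib.KnownB.Mult.Co0P2
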