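import Cfsg.Agent.Lib.KnownB.Mult.Co0P2Data
import Cfsg.Agent.Lib.KnownB.Mult.Chunks

/-! Checks of the certificate at `2` for `Co0`. -/

set_option autoImplicit false
set_option maxRecDepth 100000
set_option Elab.async false

namespace CfsgLib.KnownB.Mult.Co0P2

open CfsgLib.Spor

theorem tgt0 : (piece (List.range cert.rules.length) 30 0).all (cert.tgtX rowMasks lamMasks) = true := by decide +kernel
theorem tgt1 : (piece (List.range cert.rules.length) 30 1).all (cert.tgtX rowMasks lamMasks) = true := by decide +kernel
theorem tgt2 : (piece (List.range cert.rules.length) 30 2).all (cert.tgtX rowMasks lamMasks) = true := by decide +kernel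
theorem tgt3 : (piece (List.range cert.rules.length) 30 3).all (cert.tgtX rowMasks lamMasks) = true := by decide +kernel
theorem tgt4 : (piece (List.range cert.rules.length) 30 4).all (cert.tgtX rowMasks lamMasks) = true := by decide +kernel
theorem tgt5 : (piece (List.range cert.rules.length) 30 5).all (cert.tgtX rowMasks lamMasks) = true := by decide +kernel
theorem tgt6 : (piece (List.range cert.rules.length) 30 6).all (cert.tgtX rowMasks lamMasks) = true := by decide +kernel
theorem tgt7 : (piece (List.range cert.rules.length) 30 7).all (cert.tgtX rowMasks lamMasks) = true := by decide +kernel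
theorem tgt8 : (piece (List.range cert.rules.length) 30 8).all (cert.tgtX rowMasks lamMasks) = true := by decide +kernel

end CfsgLib.KnownB.Mult.Co0P2
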