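import Cfsg.Agent.Lib.KnownB.Mult.Co0P2GenS0
import Cfsg.Agent.Lib.KnownB.Mult.Co0P2GenC0
import Cfsg.Agent.Lib.KnownB.Mult.Co0P2GenC1
import Cfsg.Agent.Lib.KnownB.Mult.Co0P2RelR0
import Cfsg.Agent.Lib.KnownB.Mult.Co0P2RelR1
import Cfsg.Agent.Lib.KnownB.Mult.Co0P2RelR2
import Cfsg.Agent.Lib.KnownB.Mult.Co0P2RelC0
import Cfsg.Agent.Lib.KnownB.Mult.Co0P2Rows0
import Cfsg.Agent.Lib.KnownB.Mult.Co0P2Target0

/-! The multiplier of `Co0` has no `2`-part. -/

set_option autoImplicit false
set_option maxRecDepth 100000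
set_option Elab.async false

namespace CfsgLib.KnownB.Mult.Co0P2

open CfsgLib.Spor

theorem gen : cert.genOK co0Code = true :=
  Cert.genOK_of _ _
    (all_of_pieces (co0Code.okc) 8 3 cert.σ (fun i hi => match i, hi with
    | 0, _ => genS0
    | 1, _ => genS1
    | 2, _ => genS2
    | n + 3, hi => absurd hi (by omega)) (by decide +kernel))
    (all_of_pieces (Cert.okCnjF co0Code) 8 9 cert.conjs (fun i hi => match i, hi with
    | 0, _ => genC0
    | 1, _ => genC1
    | 2, _ => genC2
    | 3, _ => genC3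
    | 4, _ => genC4
    | 5, _ => genC5
    | 6, _ => genC6
    | 7, _ => genC7
    | 8, _ => genC8
    | n + 9, hi => absurd hi (by omega)) (by decide +kernel))

theorem rel : cert.relOK co0Code = true :=
  Cert.relOK_of _ _
    (all_of_pieces (cert.ruleF co0Code) 16 16 cert.rules (fun i hi => match i, hi with
    | 0, _ => relR0
    | 1, _ => relR1
    | 2, _ => relR2
    | 3, _ => relR3
    | 4, _ => relR4
    | 5, _ => relR5
    | 6, _ => relR6
    | 7, _ => relR7
    | 8, _ => relR8
    | 9, _ => relR9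
    | 10, _ => relR10
    | 11, _ => relR11
    | 12, _ => relR12
    | 13, _ => relR13
    | 14, _ => relR14
    | 15, _ => relR15
    | n + 16, hi => absurd hi (by omega)) (by decide +kernel))
    (all_of_pieces (cert.cnjF co0Code) 16 5 (List.range cert.conjs.length) (fun i hi => match i, hi with
    | 0, _ => relC0
    | 1, _ => relC1
    | 2, _ => relC2
    | 3, _ => relC3
    | 4, _ => relC4
    | n + 5, hi => absurd hi (by omega)) (by decide +kernel))

theorem buckets_eq : buckets = mkB cert.rules 22 := by decide +kernel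

theorem rows : cert.rowsOK co0Code 2 = true :=
  Cert.rowsOK_of _ _ _ (Cert.all_rowF_of_rowB _ _ _ buckets_eq
    (all_of_pieces (cert.rowB co0Code 2 buckets) 4 67 cert.rows (fun i hi => match i, hi with
    | 0, _ => rowsC0
    | 1, _ => rowsC1
    | 2, _ => rowsC2
    | 3, _ => rowsC3
    | 4, _ => rowsC4
    | 5, _ => rowsC5
    | 6, _ => rowsC6
    | 7, _ => rowsC7
    | 8, _ => rowsC8
    | 9, _ => rowsC9
    | 10, _ => rowsC10
    | 11, _ => rowsC11
    | 12, _ => rowsC12
    | 13, _ => rowsC13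
    | 14, _ => rowsC14
    | 15, _ => rowsC15
    | 16, _ => rowsC16
    | 17, _ => rowsC17
    | 18, _ => rowsC18
    | 19, _ => rowsC19
    | 20, _ => rowsC20
    | 21, _ => rowsC21
    | 22, _ => rowsC22
    | 23, _ => rowsC23
    | 24, _ => rowsC24
    | 25, _ => rowsC25
    | 26, _ => rowsC26
    | 27, _ => rowsC27
    | 28, _ => rowsC28
    | 29, _ => rowsC29
    | 30, _ => rowsC30
    | 31, _ => rowsC31
    | 32, _ => rowsC32
    | 33, _ => rowsC33
    | 34, _ => rowsC34
    | 35, _ => rowsC35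
    | 36, _ => rowsC36
    | 37, _ => rowsC37
    | 38, _ => rowsC38
    | 39, _ => rowsC39
    | 40, _ => rowsC40
    | 41, _ => rowsC41
    | 42, _ => rowsC42
    | 43, _ => rowsC43
    | 44, _ => rowsC44
    | 45, _ => rowsC45
    | 46, _ => rowsC46
    | 47, _ => rowsC47
    | 48, _ => rowsC48
    | 49, _ => rowsC49
    | 50, _ => rowsC50
    | 51, _ => rowsC51
    | 52, _ => rowsC52
    | 53, _ => rowsC53
    | 54, _ => rowsC54
    | 55, _ => rowsC55
    | 56, _ => rowsC56
    | 57, _ => rowsC57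
    | 58, _ => rowsC58
    | 59, _ => rowsC59
    | 60, _ => rowsC60
    | 61, _ => rowsC61
    | 62, _ => rowsC62
    | 63, _ => rowsC63
    | 64, _ => rowsC64
    | 65, _ => rowsC65
    | 66, _ => rowsC66
    | n + 67, hi => absurd hi (by omega)) (by decide +kernel)))

theorem rowMasks_eq : rowMasks = cert.rows.map fun r => pack2 r.2 := by decide +kernel

theorem lamMasks_eq : lamMasks = cert.lam.map pack2 := by decide +kernel

theorem target : cert.targetOK 2 = true :=
  Cert.targetOK_of _ _ (Cert.all_tgtF_of_tgtX cert rowMasks_eq lamMasks_eq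
    (all_of_pieces (cert.tgtX rowMasks lamMasks) 30 9 (List.range cert.rules.length) (fun i hi => match i, hi with
    | 0, _ => tgt0
    | 1, _ => tgt1
    | 2, _ => tgt2
    | 3, _ => tgt3
    | 4, _ => tgt4
    | 5, _ => tgt5
    | 6, _ => tgt6
    | 7, _ => tgt7
    | 8, _ => tgt8
    | n + 9, hi => absurd hi (by omega)) (by decide +kernel)))

theorem pcs : cert.pcOK 2 = true := by decide +kernel

theorem levels_ok : Cert.levelsOK co0Code cert appC Nat.beq levels [] = true := by decide +kernel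

theorem primeCond_cert {m : ℕ} (hN : Nat.card Cfsg.Co0 = 2 ^ 22 * m) (hm : ¬ 2 ∣ m) :
    haveI : Fact (Nat.Prime 2) := ⟨by norm_num⟩; PrimeCond Cfsg.Co0 2 :=
  haveI : Fact (Nat.Prime 2) := ⟨by norm_num⟩
  primeCond_of_levels cert ⟨gen, rel, pcs, rows, target⟩ levels levels_ok (by decide +kernel) hN hm

end CfsgLib.KnownB.Mult.Co0P2
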