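import Cfsg.Agent.Lib.KnownB.Mult.Co0P3Data
import Cfsg.Agent.Lib.KnownB.Mult.Chunks

/-! Checks of the certificate at `3` for `Co0`. -/

set_option autoImplicit false
set_option maxRecDepth 100000
set_option Elab.async false

namespace CfsgLib.KnownB.Mult.Co0P3

open CfsgLib.Spor

theorem relR0 : (piece cert.rules 8 0).all (cert.ruleF co0Code) = true := by decide +kernel
theorem relR1 : (piece cert.rules 8 1).all (cert.ruleF co0Code) = true := by decide +kernel
theorem relR2 : (piece cert.rules 8 2).all (cert.ruleF co0Code) = true := by decide +kernel
theorem relR3 : (piece cert.rules 8 3).all (cert.ruleF co0Code) = true := by decide +kernel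
theorem relR4 : (piece cert.rules 8 4).all (cert.ruleF co0Code) = true := by decide +kernel
theorem relR5 : (piece cert.rules 8 5).all (cert.ruleF co0Code) = true := by decide +kernel

end CfsgLib.KnownB.Mult.Co0P3
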