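import Cfsg.Agent.Lib.KnownB.Mult.Co0P5Data
import Cfsg.Agent.Lib.KnownB.Mult.Chunks

/-! Checks of the certificate at `5` for `Co0`. -/

set_option autoImplicit false
set_option maxRecDepth 100000
set_option Elab.async false

namespace CfsgLib.KnownB.Mult.Co0P5

open CfsgLib.Spor

theorem relC0 : (piece (List.range cert.conjs.length) 8 0).all (cert.cnjF co0Code) = true := by decide +kernel

end CfsgLib.KnownB.Mult.Co0P5
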