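import Cfsg.Agent.Lib.KnownB.Mult.Co0P5GenS0
import Cfsg.Agent.Lib.KnownB.Mult.Co0P5GenC0
import Cfsg.Agent.Lib.KnownB.Mult.Co0P5RelR0
import Cfsg.Agent.Lib.KnownB.Mult.Co0P5RelC0
import Cfsg.Agent.Lib.KnownB.Mult.Co0P5Rows0
import Cfsg.Agent.Lib.KnownB.Mult.Co0P5Target0

/-! The multiplier of `Co0` has no `5`-part. -/

set_option autoImplicit false
set_option maxRecDepth 100000
set_option Elab.async false

namespace CfsgLib.KnownB.Mult.Co0P5

open CfsgLib.Spor

theorem gen : cert.genOK co0Code = true :=
  Cert.genOK_of _ _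
    (all_of_pieces (co0Code.okc) 4 1 cert.σ (fun i hi => match i, hi with
    | 0, _ => genS0
    | n + 1, hi => absurd hi (by omega)) (by decide +kernel))
    (all_of_pieces (Cert.okCnjF co0Code) 4 2 cert.conjs (fun i hi => match i, hi with
    | 0, _ => genC0
    | 1, _ => genC1
    | n + 2, hi => absurd hi (by omega)) (by decide +kernel))

theorem rel : cert.relOK co0Code = true :=
  Cert.relOK_of _ _
    (all_of_pieces (cert.ruleF co0Code) 8 2 cert.rules (fun i hi => match i, hi with
    | 0, _ => relR0
    | 1, _ => relR1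
    | n + 2, hi => absurd hi (by omega)) (by decide +kernel))
    (all_of_pieces (cert.cnjF co0Code) 8 1 (List.range cert.conjs.length) (fun i hi => match i, hi with
    | 0, _ => relC0
    | n + 1, hi => absurd hi (by omega)) (by decide +kernel))

theorem buckets_eq : buckets = mkB cert.rules 4 := by decide +kernel

theorem rows : cert.rowsOK co0Code 5 = true :=
  Cert.rowsOK_of _ _ _ (Cert.all_rowF_of_rowB _ _ _ buckets_eq
    (all_of_pieces (cert.rowB co0Code 5 buckets) 6 2 cert.rows (fun i hi => match i, hi with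
    | 0, _ => rowsC0
    | 1, _ => rowsC1
    | n + 2, hi => absurd hi (by omega)) (by decide +kernel)))

theorem target : cert.targetOK 5 = true :=
  Cert.targetOK_of _ _
    (all_of_pieces (cert.tgtF 5) 12 1 (List.range cert.rules.length) (fun i hi => match i, hi with
    | 0, _ => tgt0
    | n + 1, hi => absurd hi (by omega)) (by decide +kernel))

theorem pcs : cert.pcOK 5 = true := by decide +kernel

theorem levels_ok : Cert.levelsOK co0Code cert appC Nat.beq levels [] = true := by decide +kernel

theorem primeCond_cert {m : ℕ} (hN : Nat.card Cfsg.Co0 = 5 ^ 4 * m) (hm : ¬ 5 ∣ m) :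
    haveI : Fact (Nat.Prime 5) := ⟨by norm_num⟩; PrimeCond Cfsg.Co0 5 :=
  haveI : Fact (Nat.Prime 5) := ⟨by norm_num⟩
  primeCond_of_levels cert ⟨gen, rel, pcs, rows, target⟩ levels levels_ok (by decide +kernel) hN hm

end CfsgLib.KnownB.Mult.Co0P5
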