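import Cfsg.Agent.Lib.KnownB.Mult.Co0P7GenS0
import Cfsg.Agent.Lib.KnownB.Mult.Co0P7GenC0
import Cfsg.Agent.Lib.KnownB.Mult.Co0P7RelR0
import Cfsg.Agent.Lib.KnownB.Mult.Co0P7RelC0
import Cfsg.Agent.Lib.KnownB.Mult.Co0P7Rows0
import Cfsg.Agent.Lib.KnownB.Mult.Co0P7Target0

/-! The multiplier of `Co0` has no `7`-part. -/

set_option autoImplicit false
set_option maxRecDepth 100000
set_option Elab.async false

namespace CfsgLib.KnownB.Mult.Co0P7

open CfsgLib.Spor

theorem gen : cert.genOK co0Code = true :=
  Cert.genOK_of _ _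
    (all_of_pieces (co0Code.okc) 4 1 cert.σ (fun i hi => match i, hi with
    | 0, _ => genS0
    | n + 1, hi => absurd hi (by omega)) (by decide +kernel))
    (all_of_pieces (Cert.okCnjF co0Code) 4 1 cert.conjs (fun i hi => match i, hi with
    | 0, _ => genC0
    | n + 1, hi => absurd hi (by omega)) (by decide +kernel))

theorem rel : cert.relOK co0Code = true :=
  Cert.relOK_of _ _
    (all_of_pieces (cert.ruleF co0Code) 8 1 cert.rules (fun i hi => match i, hi with
    | 0, _ => relR0
    | n + 1, hi => absurd hi (by omega)) (by decide +kernel))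
    (all_of_pieces (cert.cnjF co0Code) 8 1 (List.range cert.conjs.length) (fun i hi => match i, hi with
    | 0, _ => relC0
    | n + 1, hi => absurd hi (by omega)) (by decide +kernel))

theorem buckets_eq : buckets = mkB cert.rules 2 := by decide +kernel

theorem rows : cert.rowsOK co0Code 7 = true :=
  Cert.rowsOK_of _ _ _ (Cert.all_rowF_of_rowB _ _ _ buckets_eq
    (all_of_pieces (cert.rowB co0Code 7 buckets) 6 1 cert.rows (fun i hi => match i, hi with
    | 0, _ => rowsC0
    | n + 1, hi => absurd hi (by omega)) (by decide +kernel)))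

theorem target : cert.targetOK 7 = true :=
  Cert.targetOK_of _ _
    (all_of_pieces (cert.tgtF 7) 12 1 (List.range cert.rules.length) (fun i hi => match i, hi with
    | 0, _ => tgt0
    | n + 1, hi => absurd hi (by omega)) (by decide +kernel))

theorem pcs : cert.pcOK 7 = true := by decide +kernel

theorem levels_ok : Cert.levelsOK co0Code cert appC Nat.beq levels [] = true := by decide +kernel

theorem primeCond_cert {m : ℕ} (hN : Nat.card Cfsg.Co0 = 7 ^ 2 * m) (hm : ¬ 7 ∣ m) :
    haveI : Fact (Nat.Prime 7) := ⟨by norm_num⟩; PrimeCond Cfsg.Co0 7 :=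
  haveI : Fact (Nat.Prime 7) := ⟨by norm_num⟩
  primeCond_of_levels cert ⟨gen, rel, pcs, rows, target⟩ levels levels_ok (by decide +kernel) hN hm

end CfsgLib.KnownB.Mult.Co0P7
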