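import Cfsg.Agent.Lib.KnownB.Mult.Co0Groups
import Cfsg.Agent.Lib.Spor.Co1Simple
import Cfsg.Agent.Lib.Schur.Lift

/-!
Codes for `Cfsg.Co0` and the stem extension of `Co0` over `Cfsg.Spor.Co1`.
-/

set_option autoImplicit false
set_option maxRecDepth 100000

namespace CfsgLib.KnownB.Mult

open Cfsg CfsgLib.Spor
open scoped commutatorElement Pointwise symmDiff

/-- codes for `Co0` -/
noncomputable def co0Code : Code Cfsg.Co0 (List ℕ × List Stp) :=
  coCode Cfsg.Co0 le_rfl (fun _ => true) (fun g _ _ _ => g.2)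

theorem negEl_mem_commutator_of {c : Finset GolayPt}
    (hcs : c ∈ supports (golayCode : Set (GolayPt → ZMod 2))) (σ : ↥M24)
    (hσe : (σ : Equiv.Perm GolayPt) • c = cᶜ) : negEl ∈ _root_.commutator Cfsg.Co0 := by
  have h1 : permEl σ * epsEl ⟨c, hcs⟩ * (permEl σ)⁻¹ =
      epsEl ⟨(σ : Equiv.Perm GolayPt) • c, smul_supports σ.2 hcs⟩ := by
    rw [← permEl_inv, epsEl, epsEl, permEl, permEl, monoEl_mul, monoEl_mul]
    congr 1
    refine Prod.ext (by simp) (Subtype.ext ?_)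
    simp [Finset.smul_finset_empty]
  have h2 : epsEl ⟨c, hcs⟩ * epsEl ⟨c, hcs⟩ = 1 := by
    rw [epsEl, monoEl_mul, ← monoEl_one]
    congr 1
    exact Prod.ext (one_mul _) (Subtype.ext (by simp))
  have h3 : epsEl ⟨(σ : Equiv.Perm GolayPt) • c, smul_supports σ.2 hcs⟩ * epsEl ⟨c, hcs⟩ = negEl := by
    rw [epsEl, epsEl, monoEl_mul, negEl]
    congr 1
    refine Prod.ext (one_mul _) (Subtype.ext ?_)
    show ((σ : Equiv.Perm GolayPt) • c) ∆ (((1 : ↥M24) : Equiv.Perm GolayPt) • c) = Finset.univ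
    rw [hσe, OneMemClass.coe_one, one_smul, ← Finset.top_eq_univ]
    exact hnot_symmDiff_self c
  have h4 := Subgroup.commutator_mem_commutator (Subgroup.mem_top (permEl σ))
    (Subgroup.mem_top (epsEl ⟨c, hcs⟩))
  rw [← commutator_def, commutatorElement_def, h1, inv_eq_of_mul_eq_one_right h2, h3] at h4
  exact h4

theorem compl_mem_dodecads' {d : Finset GolayPt} (hd : d ∈ dodecads) : dᶜ ∈ dodecads := by
  refine ⟨?_, by rw [Finset.card_compl, card_golayPt, hd.2]⟩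
  rw [show dᶜ = d ∆ Finset.univ from (symmDiff_top d).symm]
  exact symmDiff_mem_supports hd.1 univ_supports

theorem negEl_mem_commutator : negEl ∈ _root_.commutator Cfsg.Co0 := by
  obtain ⟨σ, hσ, hσe⟩ := exists_smul_dodecad dodec0_mem (compl_mem_dodecads' dodec0_mem)
  exact negEl_mem_commutator_of dodec0_mem.1 ⟨σ, hσ⟩ hσe

/-- the map onto `Co1` -/
def toCo1 : Cfsg.Co0 →* Cfsg.Spor.Co1 := QuotientGroup.mk' (Subgroup.center Cfsg.Co0)

theorem isStem_toCo1 : IsStemExtension toCo1 ∧ Nat.card toCo1.ker = 2 := by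
  refine ⟨⟨QuotientGroup.mk'_surjective _, ?_, ?_⟩, ?_⟩
  · rw [toCo1, QuotientGroup.ker_mk']
  · rw [toCo1, QuotientGroup.ker_mk']
    intro g hg
    rcases eq_of_central hg with rfl | rfl
    exacts [one_mem _, negEl_mem_commutator]
  · rw [toCo1, QuotientGroup.ker_mk', natCard_center]

/-- no prime above `7` divides the order of `Co0` twice -/
theorem not_sq_dvd_co0 {p : ℕ} (hp : p.Prime) (h2 : p ≠ 2) (h3 : p ≠ 3) (h5 : p ≠ 5) (h7 : p ≠ 7) :
    ¬ p ^ 2 ∣ 8315553613086720000 := by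
  intro hd
  have co : ∀ {q : ℕ}, q.Prime → p ≠ q → ∀ a, Nat.Coprime (p ^ 2) (q ^ a) := fun hq h a =>
    Nat.Coprime.pow _ _ ((Nat.coprime_primes hp hq).2 h)
  rw [show (8315553613086720000 : ℕ) = 2 ^ 22 * (3 ^ 9 * (5 ^ 4 * (7 ^ 2 * (11 * 13 * 23))))
    from by norm_num] at hd
  have hd' : p ^ 2 ∣ 11 * 13 * 23 :=
    (co (by norm_num) h7 2).dvd_of_dvd_mul_left ((co (by norm_num) h5 4).dvd_of_dvd_mul_left
      ((co Nat.prime_three h3 9).dvd_of_dvd_mul_left ((co Nat.prime_two h2 22).dvd_of_dvd_mul_left hd)))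
  rcases hp.dvd_mul.1 ((dvd_pow_self p two_ne_zero).trans hd') with h | h
  · rcases hp.dvd_mul.1 h with h | h
    all_goals
      rw [(Nat.prime_dvd_prime_iff_eq hp (by norm_num)).1 h] at hd'
      norm_num at hd'
  · rw [(Nat.prime_dvd_prime_iff_eq hp (by norm_num)).1 h] at hd'
    norm_num at hd'

/-- the base `p` digits of a number -/
def unV (p : ℕ) : ℕ → ℕ → List ℕ
  | 0, _ => []
  | len + 1, v => v % p :: unV p len (v / p)

end CfsgLib.KnownB.Mult
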