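import Cfsg.Agent.Lib.KnownB.Mult.Co2P2Data
import Cfsg.Agent.Lib.KnownB.Mult.Chunks

/-! Checks of the certificate at `2` for `Co2`. -/

set_option autoImplicit false
set_option maxRecDepth 100000
set_option Elab.async false

namespace CfsgLib.KnownB.Mult.Co2P2

open CfsgLib.Spor

theorem rowsC0 : (piece cert.rows 1 0).all (cert.rowF co2Code 2) = true := by decide +kernel
theorem rowsC1 : (piece cert.rows 1 1).all (cert.rowF co2Code 2) = true := by decide +kernel
theorem rowsC2 : (piece cert.rows 1 2).all (cert.rowF co2Code 2) = true := by decide +kernel
theorem rowsC3 : (piece cert.rows 1 3).all (cert.rowF co2Code 2) = true := by decide +kernel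
theorem rowsC4 : (piece cert.rows 1 4).all (cert.rowF co2Code 2) = true := by decide +kernel
theorem rowsC5 : (piece cert.rows 1 5).all (cert.rowF co2Code 2) = true := by decide +kernel
theorem rowsC6 : (piece cert.rows 1 6).all (cert.rowF co2Code 2) = true := by decide +kernel
theorem rowsC7 : (piece cert.rows 1 7).all (cert.rowF co2Code 2) = true := by decide +kernel
theorem rowsC8 : (piece cert.rows 1 8).all (cert.rowF co2Code 2) = true := by decide +kernel
theorem rowsC9 : (piece cert.rows 1 9).all (cert.rowF co2Code 2) = true := by decide +kernel
theorem rowsC10 : (piece cert.rows 1 10).all (cert.rowF co2Code 2) = true := by decide +kernel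
theorem rowsC11 : (piece cert.rows 1 11).all (cert.rowF co2Code 2) = true := by decide +kernel
theorem rowsC12 : (piece cert.rows 1 12).all (cert.rowF co2Code 2) = true := by decide +kernel
theorem rowsC13 : (piece cert.rows 1 13).all (cert.rowF co2Code 2) = true := by decide +kernel
theorem rowsC14 : (piece cert.rows 1 14).all (cert.rowF co2Code 2) = true := by decide +kernel
theorem rowsC15 : (piece cert.rows 1 15).all (cert.rowF co2Code 2) = true := by decide +kernel
theorem rowsC16 : (piece cert.rows 1 16).all (cert.rowF co2Code 2) = true := by decide +kernel
theorem rowsC17 : (piece cert.rows 1 17).all (cert.rowF co2Code 2) = true := by decide +kernel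
theorem rowsC18 : (piece cert.rows 1 18).all (cert.rowF co2Code 2) = true := by decide +kernel
theorem rowsC19 : (piece cert.rows 1 19).all (cert.rowF co2Code 2) = true := by decide +kernel
theorem rowsC20 : (piece cert.rows 1 20).all (cert.rowF co2Code 2) = true := by decide +kernel
theorem rowsC21 : (piece cert.rows 1 21).all (cert.rowF co2Code 2) = true := by decide +kernel
theorem rowsC22 : (piece cert.rows 1 22).all (cert.rowF co2Code 2) = true := by decide +kernel
theorem rowsC23 : (piece cert.rows 1 23).all (cert.rowF co2Code 2) = true := by decide +kernel
theorem rowsC24 : (piece cert.rows 1 24).all (cert.rowF co2Code 2) = true := by decide +kernel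
theorem rowsC25 : (piece cert.rows 1 25).all (cert.rowF co2Code 2) = true := by decide +kernel
theorem rowsC26 : (piece cert.rows 1 26).all (cert.rowF co2Code 2) = true := by decide +kernel
theorem rowsC27 : (piece cert.rows 1 27).all (cert.rowF co2Code 2) = true := by decide +kernel
theorem rowsC28 : (piece cert.rows 1 28).all (cert.rowF co2Code 2) = true := by decide +kernel
theorem rowsC29 : (piece cert.rows 1 29).all (cert.rowF co2Code 2) = true := by decide +kernel
theorem rowsC30 : (piece cert.rows 1 30).all (cert.rowF co2Code 2) = true := by decide +kernel
theorem rowsC31 : (piece cert.rows 1 31).all (cert.rowF co2Code 2) = true := by decide +kernel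
theorem rowsC32 : (piece cert.rows 1 32).all (cert.rowF co2Code 2) = true := by decide +kernel
theorem rowsC33 : (piece cert.rows 1 33).all (cert.rowF co2Code 2) = true := by decide +kernel
theorem rowsC34 : (piece cert.rows 1 34).all (cert.rowF co2Code 2) = true := by decide +kernel
theorem rowsC35 : (piece cert.rows 1 35).all (cert.rowF co2Code 2) = true := by decide +kernel
theorem rowsC36 : (piece cert.rows 1 36).all (cert.rowF co2Code 2) = true := by decide +kernel
theorem rowsC37 : (piece cert.rows 1 37).all (cert.rowF co2Code 2) = true := by decide +kernel
theorem rowsC38 : (piece cert.rows 1 38).all (cert.rowF co2Code 2) = true := by decide +kernel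
theorem rowsC39 : (piece cert.rows 1 39).all (cert.rowF co2Code 2) = true := by decide +kernel
theorem rowsC40 : (piece cert.rows 1 40).all (cert.rowF co2Code 2) = true := by decide +kernel
theorem rowsC41 : (piece cert.rows 1 41).all (cert.rowF co2Code 2) = true := by decide +kernel
theorem rowsC42 : (piece cert.rows 1 42).all (cert.rowF co2Code 2) = true := by decide +kernel
theorem rowsC43 : (piece cert.rows 1 43).all (cert.rowF co2Code 2) = true := by decide +kernel
theorem rowsC44 : (piece cert.rows 1 44).all (cert.rowF co2Code 2) = true := by decide +kernel
theorem rowsC45 : (piece cert.rows 1 45).all (cert.rowF co2Code 2) = true := by decide +kernel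
theorem rowsC46 : (piece cert.rows 1 46).all (cert.rowF co2Code 2) = true := by decide +kernel
theorem rowsC47 : (piece cert.rows 1 47).all (cert.rowF co2Code 2) = true := by decide +kernel
theorem rowsC48 : (piece cert.rows 1 48).all (cert.rowF co2Code 2) = true := by decide +kernel
theorem rowsC49 : (piece cert.rows 1 49).all (cert.rowF co2Code 2) = true := by decide +kernel
theorem rowsC50 : (piece cert.rows 1 50).all (cert.rowF co2Code 2) = true := by decide +kernel
theorem rowsC51 : (piece cert.rows 1 51).all (cert.rowF co2Code 2) = true := by decide +kernel
theorem rowsC52 : (piece cert.rows 1 52).all (cert.rowF co2Code 2) = true := by decide +kernel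
theorem rowsC53 : (piece cert.rows 1 53).all (cert.rowF co2Code 2) = true := by decide +kernel
theorem rowsC54 : (piece cert.rows 1 54).all (cert.rowF co2Code 2) = true := by decide +kernel
theorem rowsC55 : (piece cert.rows 1 55).all (cert.rowF co2Code 2) = true := by decide +kernel
theorem rowsC56 : (piece cert.rows 1 56).all (cert.rowF co2Code 2) = true := by decide +kernel
theorem rowsC57 : (piece cert.rows 1 57).all (cert.rowF co2Code 2) = true := by decide +kernel
theorem rowsC58 : (piece cert.rows 1 58).all (cert.rowF co2Code 2) = true := by decide +kernel
theorem rowsC59 : (piece cert.rows 1 59).all (cert.rowF co2Code 2) = true := by decide +kernel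
theorem rowsC60 : (piece cert.rows 1 60).all (cert.rowF co2Code 2) = true := by decide +kernel
theorem rowsC61 : (piece cert.rows 1 61).all (cert.rowF co2Code 2) = true := by decide +kernel
theorem rowsC62 : (piece cert.rows 1 62).all (cert.rowF co2Code 2) = true := by decide +kernel
theorem rowsC63 : (piece cert.rows 1 63).all (cert.rowF co2Code 2) = true := by decide +kernel
theorem rowsC64 : (piece cert.rows 1 64).all (cert.rowF co2Code 2) = true := by decide +kernel
theorem rowsC65 : (piece cert.rows 1 65).all (cert.rowF co2Code 2) = true := by decide +kernel
theorem rowsC66 : (piece cert.rows 1 66).all (cert.rowF co2Code 2) = true := by decide +kernel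
theorem rowsC67 : (piece cert.rows 1 67).all (cert.rowF co2Code 2) = true := by decide +kernel
theorem rowsC68 : (piece cert.rows 1 68).all (cert.rowF co2Code 2) = true := by decide +kernel
theorem rowsC69 : (piece cert.rows 1 69).all (cert.rowF co2Code 2) = true := by decide +kernel
theorem rowsC70 : (piece cert.rows 1 70).all (cert.rowF co2Code 2) = true := by decide +kernel
theorem rowsC71 : (piece cert.rows 1 71).all (cert.rowF co2Code 2) = true := by decide +kernel
theorem rowsC72 : (piece cert.rows 1 72).all (cert.rowF co2Code 2) = true := by decide +kernel
theorem rowsC73 : (piece cert.rows 1 73).all (cert.rowF co2Code 2) = true := by decide +kernel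
theorem rowsC74 : (piece cert.rows 1 74).all (cert.rowF co2Code 2) = true := by decide +kernel
theorem rowsC75 : (piece cert.rows 1 75).all (cert.rowF co2Code 2) = true := by decide +kernel
theorem rowsC76 : (piece cert.rows 1 76).all (cert.rowF co2Code 2) = true := by decide +kernel
theorem rowsC77 : (piece cert.rows 1 77).all (cert.rowF co2Code 2) = true := by decide +kernel
theorem rowsC78 : (piece cert.rows 1 78).all (cert.rowF co2Code 2) = true := by decide +kernel
theorem rowsC79 : (piece cert.rows 1 79).all (cert.rowF co2Code 2) = true := by decide +kernel
theorem rowsC80 : (piece cert.rows 1 80).all (cert.rowF co2Code 2) = true := by decide +kernel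
theorem rowsC81 : (piece cert.rows 1 81).all (cert.rowF co2Code 2) = true := by decide +kernel
theorem rowsC82 : (piece cert.rows 1 82).all (cert.rowF co2Code 2) = true := by decide +kernel
theorem rowsC83 : (piece cert.rows 1 83).all (cert.rowF co2Code 2) = true := by decide +kernel
theorem rowsC84 : (piece cert.rows 1 84).all (cert.rowF co2Code 2) = true := by decide +kernel
theorem rowsC85 : (piece cert.rows 1 85).all (cert.rowF co2Code 2) = true := by decide +kernel
theorem rowsC86 : (piece cert.rows 1 86).all (cert.rowF co2Code 2) = true := by decide +kernel
theorem rowsC87 : (piece cert.rows 1 87).all (cert.rowF co2Code 2) = true := by decide +kernel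
theorem rowsC88 : (piece cert.rows 1 88).all (cert.rowF co2Code 2) = true := by decide +kernel
theorem rowsC89 : (piece cert.rows 1 89).all (cert.rowF co2Code 2) = true := by decide +kernel
theorem rowsC90 : (piece cert.rows 1 90).all (cert.rowF co2Code 2) = true := by decide +kernel
theorem rowsC91 : (piece cert.rows 1 91).all (cert.rowF co2Code 2) = true := by decide +kernel
theorem rowsC92 : (piece cert.rows 1 92).all (cert.rowF co2Code 2) = true := by decide +kernel
theorem rowsC93 : (piece cert.rows 1 93).all (cert.rowF co2Code 2) = true := by decide +kernel
theorem rowsC94 : (piece cert.rows 1 94).all (cert.rowF co2Code 2) = true := by decide +kernel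
theorem rowsC95 : (piece cert.rows 1 95).all (cert.rowF co2Code 2) = true := by decide +kernel
theorem rowsC96 : (piece cert.rows 1 96).all (cert.rowF co2Code 2) = true := by decide +kernel
theorem rowsC97 : (piece cert.rows 1 97).all (cert.rowF co2Code 2) = true := by decide +kernel
theorem rowsC98 : (piece cert.rows 1 98).all (cert.rowF co2Code 2) = true := by decide +kernel
theorem rowsC99 : (piece cert.rows 1 99).all (cert.rowF co2Code 2) = true := by decide +kernel
theorem rowsC100 : (piece cert.rows 1 100).all (cert.rowF co2Code 2) = true := by decide +kernel
theorem rowsC101 : (piece cert.rows 1 101).all (cert.rowF co2Code 2) = true := by decide +kernel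
theorem rowsC102 : (piece cert.rows 1 102).all (cert.rowF co2Code 2) = true := by decide +kernel
theorem rowsC103 : (piece cert.rows 1 103).all (cert.rowF co2Code 2) = true := by decide +kernel
theorem rowsC104 : (piece cert.rows 1 104).all (cert.rowF co2Code 2) = true := by decide +kernel
theorem rowsC105 : (piece cert.rows 1 105).all (cert.rowF co2Code 2) = true := by decide +kernel
theorem rowsC106 : (piece cert.rows 1 106).all (cert.rowF co2Code 2) = true := by decide +kernel
theorem rowsC107 : (piece cert.rows 1 107).all (cert.rowF co2Code 2) = true := by decide +kernel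
theorem rowsC108 : (piece cert.rows 1 108).all (cert.rowF co2Code 2) = true := by decide +kernel
theorem rowsC109 : (piece cert.rows 1 109).all (cert.rowF co2Code 2) = true := by decide +kernel
theorem rowsC110 : (piece cert.rows 1 110).all (cert.rowF co2Code 2) = true := by decide +kernel
theorem rowsC111 : (piece cert.rows 1 111).all (cert.rowF co2Code 2) = true := by decide +kernel
theorem rowsC112 : (piece cert.rows 1 112).all (cert.rowF co2Code 2) = true := by decide +kernel
theorem rowsC113 : (piece cert.rows 1 113).all (cert.rowF co2Code 2) = true := by decide +kernel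
theorem rowsC114 : (piece cert.rows 1 114).all (cert.rowF co2Code 2) = true := by decide +kernel
theorem rowsC115 : (piece cert.rows 1 115).all (cert.rowF co2Code 2) = true := by decide +kernel
theorem rowsC116 : (piece cert.rows 1 116).all (cert.rowF co2Code 2) = true := by decide +kernel
theorem rowsC117 : (piece cert.rows 1 117).all (cert.rowF co2Code 2) = true := by decide +kernel
theorem rowsC118 : (piece cert.rows 1 118).all (cert.rowF co2Code 2) = true := by decide +kernel
theorem rowsC119 : (piece cert.rows 1 119).all (cert.rowF co2Code 2) = true := by decide +kernel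

end CfsgLib.KnownB.Mult.Co2P2
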