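import Cfsg.Agent.Lib.KnownB.Mult.Co2P2Data
import Cfsg.Agent.Lib.KnownB.Mult.Chunks

/-! Checks of the certificate at `2` for `Co2`. -/

set_option autoImplicit false
set_option maxRecDepth 100000
set_option Elab.async false

namespace CfsgLib.KnownB.Mult.Co2P2

open CfsgLib.Spor

theorem rowsC120 : (piece cert.rows 1 120).all (cert.rowF co2Code 2) = true := by decide +kernel
theorem rowsC121 : (piece cert.rows 1 121).all (cert.rowF co2Code 2) = true := by decide +kernel
theorem rowsC122 : (piece cert.rows 1 122).all (cert.rowF co2Code 2) = true := by decide +kernel
theorem rowsC123 : (piece cert.rows 1 123).all (cert.rowF co2Code 2) = true := by decide +kernel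
theorem rowsC124 : (piece cert.rows 1 124).all (cert.rowF co2Code 2) = true := by decide +kernel
theorem rowsC125 : (piece cert.rows 1 125).all (cert.rowF co2Code 2) = true := by decide +kernel
theorem rowsC126 : (piece cert.rows 1 126).all (cert.rowF co2Code 2) = true := by decide +kernel
theorem rowsC127 : (piece cert.rows 1 127).all (cert.rowF co2Code 2) = true := by decide +kernel
theorem rowsC128 : (piece cert.rows 1 128).all (cert.rowF co2Code 2) = true := by decide +kernel
theorem rowsC129 : (piece cert.rows 1 129).all (cert.rowF co2Code 2) = true := by decide +kernel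
theorem rowsC130 : (piece cert.rows 1 130).all (cert.rowF co2Code 2) = true := by decide +kernel
theorem rowsC131 : (piece cert.rows 1 131).all (cert.rowF co2Code 2) = true := by decide +kernel
theorem rowsC132 : (piece cert.rows 1 132).all (cert.rowF co2Code 2) = true := by decide +kernel
theorem rowsC133 : (piece cert.rows 1 133).all (cert.rowF co2Code 2) = true := by decide +kernel
theorem rowsC134 : (piece cert.rows 1 134).all (cert.rowF co2Code 2) = true := by decide +kernel
theorem rowsC135 : (piece cert.rows 1 135).all (cert.rowF co2Code 2) = true := by decide +kernel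

end CfsgLib.KnownB.Mult.Co2P2
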