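import Cfsg.Agent.Lib.KnownB.Mult.Co2P2Data
import Cfsg.Agent.Lib.KnownB.Mult.Chunks

/-! Checks of the certificate at `2` for `Co2`. -/

set_option autoImplicit false
set_option maxRecDepth 100000
set_option Elab.async false

namespace CfsgLib.KnownB.Mult.Co2P2

open CfsgLib.Spor

theorem rowsC136 : (piece cert.rows 1 136).all (cert.rowF co2Code 2) = true := by decide +kernel
theorem rowsC137 : (piece cert.rows 1 137).all (cert.rowF co2Code 2) = true := by decide +kernel
theorem rowsC138 : (piece cert.rows 1 138).all (cert.rowF co2Code 2) = true := by decide +kernel
theorem rowsC139 : (piece cert.rows 1 139).all (cert.rowF co2Code 2) = true := by decide +kernel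
theorem rowsC140 : (piece cert.rows 1 140).all (cert.rowF co2Code 2) = true := by decide +kernel
theorem rowsC141 : (piece cert.rows 1 141).all (cert.rowF co2Code 2) = true := by decide +kernel
theorem rowsC142 : (piece cert.rows 1 142).all (cert.rowF co2Code 2) = true := by decide +kernel
theorem rowsC143 : (piece cert.rows 1 143).all (cert.rowF co2Code 2) = true := by decide +kernel
theorem rowsC144 : (piece cert.rows 1 144).all (cert.rowF co2Code 2) = true := by decide +kernel
theorem rowsC145 : (piece cert.rows 1 145).all (cert.rowF co2Code 2) = true := by decide +kernel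

end CfsgLib.KnownB.Mult.Co2P2
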