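import Cfsg.Agent.Lib.KnownB.Mult.Co2P2Data
import Cfsg.Agent.Lib.KnownB.Mult.Chunks

/-! Checks of the certificate at `2` for `Co2`. -/

set_option autoImplicit false
set_option maxRecDepth 100000
set_option Elab.async false

namespace CfsgLib.KnownB.Mult.Co2P2

open CfsgLib.Spor

theorem rowsC156 : (piece cert.rows 1 156).all (cert.rowF co2Code 2) = true := by decide +kernel
theorem rowsC157 : (piece cert.rows 1 157).all (cert.rowF co2Code 2) = true := by decide +kernel
theorem rowsC158 : (piece cert.rows 1 158).all (cert.rowF co2Code 2) = true := by decide +kernel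
theorem rowsC159 : (piece cert.rows 1 159).all (cert.rowF co2Code 2) = true := by decide +kernel
theorem rowsC160 : (piece cert.rows 1 160).all (cert.rowF co2Code 2) = true := by decide +kernel

end CfsgLib.KnownB.Mult.Co2P2
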