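import Cfsg.Agent.Lib.KnownB.Mult.Co2P2Data
import Cfsg.Agent.Lib.KnownB.Mult.Chunks

/-! Checks of the certificate at `2` for `Co2`. -/

set_option autoImplicit false
set_option maxRecDepth 100000
set_option Elab.async false

namespace CfsgLib.KnownB.Mult.Co2P2

open CfsgLib.Spor

theorem genS0 : (piece cert.σ 5 0).all (co2Code.okc) = true := by decide +kernel
theorem genS1 : (piece cert.σ 5 1).all (co2Code.okc) = true := by decide +kernel
theorem genS2 : (piece cert.σ 5 2).all (co2Code.okc) = true := by decide +kernel
theorem genS3 : (piece cert.σ 5 3).all (co2Code.okc) = true := by decide +kernel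
theorem genC0 : (piece cert.conjs 6 0).all (Cert.okCnjF co2Code) = true := by decide +kernel
theorem genC1 : (piece cert.conjs 6 1).all (Cert.okCnjF co2Code) = true := by decide +kernel
theorem genC2 : (piece cert.conjs 6 2).all (Cert.okCnjF co2Code) = true := by decide +kernel
theorem genC3 : (piece cert.conjs 6 3).all (Cert.okCnjF co2Code) = true := by decide +kernel
theorem genC4 : (piece cert.conjs 6 4).all (Cert.okCnjF co2Code) = true := by decide +kernel
theorem gen : cert.genOK co2Code = true :=
  Cert.genOK_of _ _
    (all_of_pieces (co2Code.okc) 5 4 cert.σ (fun i hi => match i, hi with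
    | 0, _ => genS0
    | 1, _ => genS1
    | 2, _ => genS2
    | 3, _ => genS3
    | n + 4, hi => absurd hi (by omega)) (by decide +kernel))
    (all_of_pieces (Cert.okCnjF co2Code) 6 5 cert.conjs (fun i hi => match i, hi with
    | 0, _ => genC0
    | 1, _ => genC1
    | 2, _ => genC2
    | 3, _ => genC3
    | 4, _ => genC4
    | n + 5, hi => absurd hi (by omega)) (by decide +kernel))
theorem pcs : cert.pcOK 2 = true := by decide +kernel
theorem levels_ok : Cert.levelsOK co2Code cert appC Nat.beq levels [] = true := by decide +kernel

end CfsgLib.KnownB.Mult.Co2P2
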