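import Cfsg.Agent.Lib.KnownB.Mult.Co2P2Rel
import Cfsg.Agent.Lib.KnownB.Mult.Co2P2Small
import Cfsg.Agent.Lib.KnownB.Mult.Co2P2Target
import Cfsg.Agent.Lib.KnownB.Mult.Co2P2Rows0
import Cfsg.Agent.Lib.KnownB.Mult.Co2P2Rows1
import Cfsg.Agent.Lib.KnownB.Mult.Co2P2Rows2
import Cfsg.Agent.Lib.KnownB.Mult.Co2P2Rows3
import Cfsg.Agent.Lib.KnownB.Mult.Co2P2Rows4
import Cfsg.Agent.Lib.KnownB.Mult.Co2P2Rows5

/-! Checks of the certificate at `2` for `Co2`. -/

set_option autoImplicit false
set_option maxRecDepth 100000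
set_option Elab.async false

namespace CfsgLib.KnownB.Mult.Co2P2

open CfsgLib.Spor

theorem rows : cert.rowsOK co2Code 2 = true :=
  Cert.rowsOK_of _ _ _
    (all_of_pieces (cert.rowF co2Code 2) 1 161 cert.rows (fun i hi => match i, hi with
    | 0, _ => rowsC0
    | 1, _ => rowsC1
    | 2, _ => rowsC2
    | 3, _ => rowsC3
    | 4, _ => rowsC4
    | 5, _ => rowsC5
    | 6, _ => rowsC6
    | 7, _ => rowsC7
    | 8, _ => rowsC8
    | 9, _ => rowsC9
    | 10, _ => rowsC10
    | 11, _ => rowsC11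
    | 12, _ => rowsC12
    | 13, _ => rowsC13
    | 14, _ => rowsC14
    | 15, _ => rowsC15
    | 16, _ => rowsC16
    | 17, _ => rowsC17
    | 18, _ => rowsC18
    | 19, _ => rowsC19
    | 20, _ => rowsC20
    | 21, _ => rowsC21
    | 22, _ => rowsC22
    | 23, _ => rowsC23
    | 24, _ => rowsC24
    | 25, _ => rowsC25
    | 26, _ => rowsC26
    | 27, _ => rowsC27
    | 28, _ => rowsC28
    | 29, _ => rowsC29
    | 30, _ => rowsC30
    | 31, _ => rowsC31
    | 32, _ => rowsC32
    | 33, _ => rowsC33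
    | 34, _ => rowsC34
    | 35, _ => rowsC35
    | 36, _ => rowsC36
    | 37, _ => rowsC37
    | 38, _ => rowsC38
    | 39, _ => rowsC39
    | 40, _ => rowsC40
    | 41, _ => rowsC41
    | 42, _ => rowsC42
    | 43, _ => rowsC43
    | 44, _ => rowsC44
    | 45, _ => rowsC45
    | 46, _ => rowsC46
    | 47, _ => rowsC47
    | 48, _ => rowsC48
    | 49, _ => rowsC49
    | 50, _ => rowsC50
    | 51, _ => rowsC51
    | 52, _ => rowsC52
    | 53, _ => rowsC53
    | 54, _ => rowsC54
    | 55, _ => rowsC55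
    | 56, _ => rowsC56
    | 57, _ => rowsC57
    | 58, _ => rowsC58
    | 59, _ => rowsC59
    | 60, _ => rowsC60
    | 61, _ => rowsC61
    | 62, _ => rowsC62
    | 63, _ => rowsC63
    | 64, _ => rowsC64
    | 65, _ => rowsC65
    | 66, _ => rowsC66
    | 67, _ => rowsC67
    | 68, _ => rowsC68
    | 69, _ => rowsC69
    | 70, _ => rowsC70
    | 71, _ => rowsC71
    | 72, _ => rowsC72
    | 73, _ => rowsC73
    | 74, _ => rowsC74
    | 75, _ => rowsC75
    | 76, _ => rowsC76
    | 77, _ => rowsC77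
    | 78, _ => rowsC78
    | 79, _ => rowsC79
    | 80, _ => rowsC80
    | 81, _ => rowsC81
    | 82, _ => rowsC82
    | 83, _ => rowsC83
    | 84, _ => rowsC84
    | 85, _ => rowsC85
    | 86, _ => rowsC86
    | 87, _ => rowsC87
    | 88, _ => rowsC88
    | 89, _ => rowsC89
    | 90, _ => rowsC90
    | 91, _ => rowsC91
    | 92, _ => rowsC92
    | 93, _ => rowsC93
    | 94, _ => rowsC94
    | 95, _ => rowsC95
    | 96, _ => rowsC96
    | 97, _ => rowsC97
    | 98, _ => rowsC98
    | 99, _ => rowsC99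
    | 100, _ => rowsC100
    | 101, _ => rowsC101
    | 102, _ => rowsC102
    | 103, _ => rowsC103
    | 104, _ => rowsC104
    | 105, _ => rowsC105
    | 106, _ => rowsC106
    | 107, _ => rowsC107
    | 108, _ => rowsC108
    | 109, _ => rowsC109
    | 110, _ => rowsC110
    | 111, _ => rowsC111
    | 112, _ => rowsC112
    | 113, _ => rowsC113
    | 114, _ => rowsC114
    | 115, _ => rowsC115
    | 116, _ => rowsC116
    | 117, _ => rowsC117
    | 118, _ => rowsC118
    | 119, _ => rowsC119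
    | 120, _ => rowsC120
    | 121, _ => rowsC121
    | 122, _ => rowsC122
    | 123, _ => rowsC123
    | 124, _ => rowsC124
    | 125, _ => rowsC125
    | 126, _ => rowsC126
    | 127, _ => rowsC127
    | 128, _ => rowsC128
    | 129, _ => rowsC129
    | 130, _ => rowsC130
    | 131, _ => rowsC131
    | 132, _ => rowsC132
    | 133, _ => rowsC133
    | 134, _ => rowsC134
    | 135, _ => rowsC135
    | 136, _ => rowsC136
    | 137, _ => rowsC137
    | 138, _ => rowsC138
    | 139, _ => rowsC139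
    | 140, _ => rowsC140
    | 141, _ => rowsC141
    | 142, _ => rowsC142
    | 143, _ => rowsC143
    | 144, _ => rowsC144
    | 145, _ => rowsC145
    | 146, _ => rowsC146
    | 147, _ => rowsC147
    | 148, _ => rowsC148
    | 149, _ => rowsC149
    | 150, _ => rowsC150
    | 151, _ => rowsC151
    | 152, _ => rowsC152
    | 153, _ => rowsC153
    | 154, _ => rowsC154
    | 155, _ => rowsC155
    | 156, _ => rowsC156
    | 157, _ => rowsC157
    | 158, _ => rowsC158
    | 159, _ => rowsC159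
    | 160, _ => rowsC160
    | n + 161, hi => absurd hi (by omega)) (by decide +kernel))

theorem primeCond_cert {m : ℕ} (hN : Nat.card Cfsg.Spor.Co2 = 2 ^ 18 * m) (hm : ¬ 2 ∣ m) :
    haveI : Fact (Nat.Prime 2) := ⟨by norm_num⟩; PrimeCond Cfsg.Spor.Co2 2 :=
  haveI : Fact (Nat.Prime 2) := ⟨by norm_num⟩
  primeCond_of_levels cert ⟨gen, rel, pcs, rows, target⟩ levels levels_ok (by decide) hN hm

end CfsgLib.KnownB.Mult.Co2P2
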