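import Cfsg.Agent.Lib.KnownB.Mult.Co2P2Data
import Cfsg.Agent.Lib.KnownB.Mult.Chunks

/-! Checks of the certificate at `2` for `Co2`. -/

set_option autoImplicit false
set_option maxRecDepth 100000
set_option Elab.async false

namespace CfsgLib.KnownB.Mult.Co2P2

open CfsgLib.Spor

theorem relR0 : (piece cert.rules 24 0).all (cert.ruleF co2Code) = true := by decide +kernel
theorem relR1 : (piece cert.rules 24 1).all (cert.ruleF co2Code) = true := by decide +kernel
theorem relR2 : (piece cert.rules 24 2).all (cert.ruleF co2Code) = true := by decide +kernel
theorem relR3 : (piece cert.rules 24 3).all (cert.ruleF co2Code) = true := by decide +kernel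
theorem relR4 : (piece cert.rules 24 4).all (cert.ruleF co2Code) = true := by decide +kernel
theorem relR5 : (piece cert.rules 24 5).all (cert.ruleF co2Code) = true := by decide +kernel
theorem relR6 : (piece cert.rules 24 6).all (cert.ruleF co2Code) = true := by decide +kernel
theorem relR7 : (piece cert.rules 24 7).all (cert.ruleF co2Code) = true := by decide +kernel
theorem relC0 : (piece (List.range cert.conjs.length) 6 0).all (cert.cnjF co2Code) = true := by decide +kernel
theorem relC1 : (piece (List.range cert.conjs.length) 6 1).all (cert.cnjF co2Code) = true := by decide +kernel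
theorem relC2 : (piece (List.range cert.conjs.length) 6 2).all (cert.cnjF co2Code) = true := by decide +kernel
theorem relC3 : (piece (List.range cert.conjs.length) 6 3).all (cert.cnjF co2Code) = true := by decide +kernel
theorem relC4 : (piece (List.range cert.conjs.length) 6 4).all (cert.cnjF co2Code) = true := by decide +kernel
theorem rel : cert.relOK co2Code = true :=
  Cert.relOK_of _ _
    (all_of_pieces (cert.ruleF co2Code) 24 8 cert.rules (fun i hi => match i, hi with
    | 0, _ => relR0
    | 1, _ => relR1
    | 2, _ => relR2
    | 3, _ => relR3
    | 4, _ => relR4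
    | 5, _ => relR5
    | 6, _ => relR6
    | 7, _ => relR7
    | n + 8, hi => absurd hi (by omega)) (by decide +kernel))
    (all_of_pieces (cert.cnjF co2Code) 6 5 (List.range cert.conjs.length) (fun i hi => match i, hi with
    | 0, _ => relC0
    | 1, _ => relC1
    | 2, _ => relC2
    | 3, _ => relC3
    | 4, _ => relC4
    | n + 5, hi => absurd hi (by omega)) (by decide +kernel))

end CfsgLib.KnownB.Mult.Co2P2
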