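import Cfsg.Agent.Lib.KnownB.Mult.Main
import Cfsg.Agent.Lib.PresCert.PermHom

/-!
Codes by words in generators for a group acting on points given by packed tables, with equality
decided on a base.
-/

set_option autoImplicit false

namespace CfsgLib.KnownB.Mult

open CfsgLib.PresCert CfsgLib.PresCert.PermData Equiv

variable {D : PermData} (I : Interp D)

theorem levels_bound_mul (hw : D.okWords D.g D.words = true) :
    ∀ (ls : List Level) (bs : List Nat), D.okLevels bs ls = true →
      (ls.map Level.len).prod * Nat.card (fixing I ((ls.map Level.base).reverse ++ bs)) ≤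
        Nat.card (fixing I bs)
  | [], bs, _ => by
    simp
  | L :: ls, bs, h => by
    simp only [okLevels, okOrbit, Bool.and_eq_true, List.all_eq_true, List.mem_range, Nat.blt_eq,
      Nat.beq_eq, Bool.or_eq_true] at h
    obtain ⟨⟨⟨⟨⟨⟨⟨⟨hlen, horb0⟩, hbase⟩, hpos0⟩, hgens⟩, horb'⟩, hfix⟩, -⟩, hrest⟩ := h
    have horb := fun p hp => allBelow_spec horb' p hp
    simp only [Bool.and_eq_true, Bool.or_eq_true, Nat.blt_eq, Nat.beq_eq] at horb
    have ih := levels_bound_mul hw ls _ hrest
    let b : Fin D.n := ⟨L.base, hbase⟩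
    let K := fixing I bs
    -- every orbit point is an image of the base point
    have key : ∀ p, p < L.len → ∃ σ ∈ K, ((σ b : Fin D.n) : Nat) = Nat.land (L.orb.word p) 65535 := by
      intro p
      induction p using Nat.strong_induction_on with
      | _ p ihp =>
        intro hp
        obtain ⟨-, hp0 | ⟨⟨hpar, hk⟩, himg⟩⟩ := horb p hp
        · subst hp0
          exact ⟨1, one_mem _, by rw [horb0]; rfl⟩
        obtain ⟨σ, hσ, eσ⟩ := ihp _ hpar (hpar.trans hp)
        have hmem : L.gens.getD (Nat.shiftRight (L.orb.word p) 32) 0 ∈ L.gens := by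
          rw [List.getD_eq_getElem?_getD, List.getElem?_eq_getElem hk]
          exact List.getElem_mem hk
        obtain ⟨τ, hτ, eτ⟩ := elem_exists I hw _ (hgens _ hmem)
        have hτK : τ ∈ K := ⟨hτ, fun i hi => Fin.ext (by rw [eτ, hfix _ hmem i hi])⟩
        exact ⟨τ * σ, mul_mem hτK hσ, by rw [Perm.mul_apply, eτ, eσ, himg]⟩
    choose σ hσ eσ using key
    let φ : Fin L.len × fixing I (L.base :: bs) → K := fun q =>
      ⟨σ q.1 q.1.2 * (q.2 : Perm (Fin D.n)), mul_mem (hσ _ _)
        ⟨q.2.2.1, fun i hi => q.2.2.2 i (List.mem_cons_of_mem _ hi)⟩⟩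
    have hφ : Function.Injective φ := by
      rintro ⟨p, τ⟩ ⟨p', τ'⟩ h
      have h' : σ p p.2 * (τ : Perm (Fin D.n)) = σ p' p'.2 * (τ' : Perm (Fin D.n)) :=
        congrArg Subtype.val h
      have hb : (τ : Perm (Fin D.n)) b = b := τ.2.2 b (List.mem_cons_self ..)
      have hb' : (τ' : Perm (Fin D.n)) b = b := τ'.2.2 b (List.mem_cons_self ..)
      have hp : (p : Nat) = p' := by
        have e := congrArg (fun π : Perm (Fin D.n) => ((π b : Fin D.n) : Nat)) h'
        simp only [Perm.mul_apply, hb, hb', eσ] at e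
        rw [← (horb p p.2).1.2, ← (horb p' p'.2).1.2, e]
      obtain rfl : p = p' := Fin.ext hp
      exact Prod.ext rfl (Subtype.ext (mul_left_cancel h'))
    have hc := Nat.card_le_card_of_injective φ hφ
    rw [Nat.card_prod, Nat.card_eq_fintype_card, Fintype.card_fin] at hc
    simpa [mul_assoc] using le_trans (Nat.mul_le_mul_left _ ih) hc

/-- image of a point under a word, read as a product of permutations -/
noncomputable def appWord (D : PermData) (w : List ℕ) (i : ℕ) : ℕ := D.app w.reverse i

/-- two words agree on the base -/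
noncomputable def eqBase (D : PermData) (B : List ℕ) (x y : List ℕ) : Bool :=
  B.all fun b => Nat.beq (appWord D x b) (appWord D y b)

universe u

variable {G : Type u} [Group G]

theorem base_trivial [Finite G] (π : G →* Perm (Fin D.n)) (hinj : Function.Injective π)
    (gn : ℕ → G) (hgn : ∀ k < D.g, ∀ i : Fin D.n, ((π (gn k) i : Fin D.n) : ℕ) = D.img k i)
    (hgen : Subgroup.closure {x | ∃ k < D.g, gn k = x} = ⊤)
    (hw : D.okWords D.g D.words = true) (ls : List Level) (hl : D.okLevels [] ls = true)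
    (hN : Nat.card G = (ls.map Level.len).prod) (q : G)
    (hq : ∀ i : Fin D.n, (i : ℕ) ∈ ls.map Level.base → π q i = i) : q = 1 := by
  let J : Interp D := ⟨fun k => π (gn k), hgn⟩
  have hgrp : grp J = π.range := by
    rw [MonoidHom.range_eq_map, ← hgen, MonoidHom.map_closure, grp]
    congr 1
    ext x
    constructor
    · rintro ⟨k, hk, rfl⟩
      exact ⟨gn k, ⟨k, hk, rfl⟩, rfl⟩
    · rintro ⟨_, ⟨k, hk, rfl⟩, rfl⟩
      exact ⟨k, hk, rfl⟩
  have h1 := levels_bound_mul J hw ls [] hl
  have h2 : Nat.card (fixing J []) ≤ Nat.card G :=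
    (Nat.card_le_card_of_injective (fun σ : fixing J [] => (⟨σ, hgrp ▸ σ.2.1⟩ : π.range))
      fun a b h => Subtype.ext (congrArg Subtype.val h :)).trans
      (Nat.card_le_card_of_surjective _ π.rangeRestrict_surjective)
  have hpos : 0 < (ls.map Level.len).prod := hN ▸ Nat.card_pos
  have h3 : Nat.card (fixing J ((ls.map Level.base).reverse ++ [])) = 1 :=
    le_antisymm (Nat.le_of_mul_le_mul_left ((h1.trans h2).trans_eq (hN.trans (mul_one _).symm)) hpos)
      Nat.card_pos
  have hm : π q ∈ fixing J ((ls.map Level.base).reverse ++ []) :=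
    ⟨hgrp ▸ ⟨q, rfl⟩, fun i hi => hq i (by simpa using hi)⟩
  rw [Subgroup.eq_bot_of_card_eq _ h3, Subgroup.mem_bot] at hm
  exact hinj (hm.trans (map_one π).symm)

/-- the data for word codes -/
structure WordRep (D : PermData) (G : Type u) [Group G] (B : List ℕ) where
  π : G →* Perm (Fin D.n)
  gn : ℕ → G
  img : ∀ k < D.g, ∀ i : Fin D.n, ((π (gn k) i : Fin D.n) : ℕ) = D.img k i
  bound : ∀ b ∈ B, b < D.n
  triv : ∀ q, (∀ i : Fin D.n, (i : ℕ) ∈ B → π q i = i) → q = 1

variable {B : List ℕ}

theorem WordRep.apply (W : WordRep D G B) : ∀ w : List ℕ, (∀ k ∈ w, k < D.g) → ∀ i : Fin D.n,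
    ((W.π ((w.map W.gn).prod) i : Fin D.n) : ℕ) = appWord D w i := by
  intro w
  induction w using List.reverseRecOn with
  | nil => simp [appWord, app]
  | append_singleton w k ih =>
    intro hw i
    rw [List.map_append, List.prod_append, map_mul, Perm.mul_apply,
      ih (fun j hj => hw j (List.mem_append_left _ hj))]
    simp [appWord, app, W.img k (hw k (List.mem_append_right _ (List.mem_singleton_self k)))]

/-- words as codes -/
noncomputable def WordRep.code (W : WordRep D G B) : Code G (List ℕ) where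
  rep q w := (∀ k ∈ w, k < D.g) ∧ q = (w.map W.gn).prod
  mul := (· ++ ·)
  one := []
  eqc := eqBase D B
  okc w := w.all fun k => Nat.blt k D.g
  rep_mul := by
    rintro a b x y ⟨hx, rfl⟩ ⟨hy, rfl⟩
    exact ⟨fun k hk => (List.mem_append.1 hk).elim (hx k) (hy k), by simp⟩
  rep_one := ⟨by simp, rfl⟩
  eq_iff := by
    rintro a b x y ⟨hx, rfl⟩ ⟨hy, rfl⟩
    simp only [eqBase, List.all_eq_true, Nat.beq_eq]
    constructor
    · intro h
      rw [← inv_mul_eq_one]
      refine W.triv _ fun i hi => ?_
      rw [map_mul, Perm.mul_apply, map_inv, Perm.inv_eq_iff_eq]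
      exact Fin.ext (by rw [W.apply x hx, W.apply y hy, h i hi])
    · intro h c hc
      have h1 := W.apply x hx ⟨c, W.bound c hc⟩
      rw [h, W.apply y hy] at h1
      exact h1.symm
  exists_rep := by
    intro x hx
    simp only [List.all_eq_true, Nat.blt_eq] at hx
    exact ⟨_, hx, rfl⟩

end CfsgLib.KnownB.Mult
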