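import Cfsg.Agent.Lib.KnownB.Mult.Stab
import Cfsg.Agent.Lib.KnownA.MathieuOut.Main

/-! Generated certificates for the multiplier of `M11`. -/

set_option autoImplicit false

namespace CfsgLib.KnownB.Mult.M11

open CfsgLib.MathieuOut

/-- the code -/
def code : Code (CfsgLib.Spor.stabG dodMasks [0]) ℕ := stabCode dodMasks [0] (by decide)

/-- certificate at 2 -/
def cert2 : Cert ℕ where
  n := 4
  σ := [435632844910692194117390334001711680, 859801253374563838922762248489667136, 890954976140709938678640932563453984, 486317894067777385906476470720956448]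
  rules := [([0, 0], [2, 3]),
    ([1, 1], []),
    ([2, 2], [3]),
    ([3, 3], []),
    ([1, 0], [0, 1, 2]),
    ([2, 0], [0, 2]),
    ([3, 0], [0, 3]),
    ([2, 1], [1, 2, 3]),
    ([3, 1], [1, 3]),
    ([3, 2], [2, 3])]
  conjs := [(964696846094572935608387675442268192, [2], [0, 1]),
    (964696846094572935608387675442268192, [0, 1], [2]),
    (726036281666630392767641581334825056, [1], [1, 2]),
    (726036281666630392767641581334825056, [3], [1, 2, 3])]
  rows := [(.ovl [0] 0 [], [0, 0, 0, 0, 0, 1, 1]),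
    (.ovl [1] 0 [], [0, 0, 1, 1, 0, 1, 0, 1, 1, 1]),
    (.ovl [2] 0 [], [0, 0, 0, 0, 0, 0, 0, 0, 0, 1]),
    (.ovl [2] 1 [], [0, 0, 0, 1, 0, 0, 0, 0, 1]),
    (.ovl [1] 4 [], [0, 0, 1, 1, 0, 0, 0, 1, 0, 1]),
    (.ovl [2] 4 [], [0, 0, 0, 0, 0, 0, 1, 0, 0, 1]),
    (.cnj 0 [0, 1, 0] [1], [1, 1, 0, 1, 1, 0, 0, 1, 0, 0, 0, 0]),
    (.cnj 2 [3, 3] [], [0, 1, 1, 1, 0, 0, 0, 1, 1, 0, 0, 0, 0, 0])]
  lam := [[], [], [1, 0, 1], [0, 0, 1]]
  combos := [[],
    [(0, 1), (1, 1), (5, 1), (7, 1)],
    [],
    [(0, 1), (1, 1), (2, 1), (3, 1), (4, 1), (5, 1)],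
    [(0, 1), (1, 1), (2, 1), (4, 1), (5, 1), (6, 1), (7, 1)],
    [(0, 1), (2, 1), (5, 1)],
    [(2, 1), (5, 1)],
    [(0, 1), (1, 1), (3, 1), (5, 1)],
    [(0, 1), (1, 1), (2, 1), (4, 1), (5, 1)],
    [(2, 1)]]

theorem cert2_gen : cert2.genOK code = true := by decide +kernel
theorem cert2_rel : cert2.relOK code = true := by decide +kernel
theorem cert2_pc : cert2.pcOK 2 = true := by decide +kernel
theorem cert2_indep : cert2.indepOK code 2 = true := by decide +kernel
theorem cert2_rows : cert2.rowsOK code 2 = true := by decide +kernel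
theorem cert2_target : cert2.targetOK 2 = true := by decide +kernel

theorem cert2_valid : cert2.Valid code 2 :=
  ⟨cert2_gen, cert2_rel, cert2_pc, cert2_indep, cert2_rows, cert2_target⟩

/-- certificate at 3 -/
def cert3 : Cert ℕ where
  n := 2
  σ := [980355909918726333671898329756320000, 226178906369730232872052899979577856]
  rules := [([0, 0, 0], []),
    ([1, 1, 1], []),
    ([1, 0], [0, 1])]
  conjs := [(944326977132319820570357567894696992, [0], [0, 0, 1, 1]),
    (944326977132319820570357567894696992, [1], [0, 0, 1]),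
    (849637249413438725475498650419732608, [0], [0, 0]),
    (849637249413438725475498650419732608, [1], [0, 0, 1])]
  rows := [(.cnj 0 [0, 0, 0] [], [1, 2, 0, 0]),
    (.cnj 0 [1, 1, 1] [], [2, 0, 0, 0, 0]),
    (.cnj 2 [3, 2] [2, 3], [0, 0, 1, 0, 0, 0, 0])]
  lam := [[], []]
  combos := [[(1, 1)],
    [(0, 1), (1, 1)],
    [(2, 2)]]

theorem cert3_gen : cert3.genOK code = true := by decide +kernel
theorem cert3_rel : cert3.relOK code = true := by decide +kernel
theorem cert3_pc : cert3.pcOK 3 = true := by decide +kernel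
theorem cert3_indep : cert3.indepOK code 3 = true := by decide +kernel
theorem cert3_rows : cert3.rowsOK code 3 = true := by decide +kernel
theorem cert3_target : cert3.targetOK 3 = true := by decide +kernel

theorem cert3_valid : cert3.Valid code 3 :=
  ⟨cert3_gen, cert3_rel, cert3_pc, cert3_indep, cert3_rows, cert3_target⟩

end CfsgLib.KnownB.Mult.M11
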