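import Cfsg.Agent.Lib.KnownB.Mult.Stab
import Cfsg.Agent.Lib.KnownA.MathieuOut.Main

/-! Generated certificates for the multiplier of `M23`. -/

set_option autoImplicit false

namespace CfsgLib.KnownB.Mult.M23

open CfsgLib.MathieuOut

/-- the code -/
def code : Code (CfsgLib.Spor.stabG [] [23]) ℕ := stabCode [] [23] (by decide)

/-- certificate at 2 -/
def cert2 : Cert ℕ where
  n := 7
  σ := [958775709561941623784325293902190697, 979085656329216722904660523791457700, 984479187536974599383374705873553800, 958105900710437200763001444389542156, 984356740566063470785408716122392681, 984167979043165664596084432093743567, 984718179095662693665844465040132097]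
  rules := [([0, 0], []),
    ([1, 1], [5]),
    ([2, 2], []),
    ([3, 3], [5]),
    ([4, 4], []),
    ([5, 5], []),
    ([6, 6], []),
    ([1, 0], [0, 1, 2, 3, 5, 6]),
    ([2, 0], [0, 2, 4]),
    ([3, 0], [0, 3, 4]),
    ([4, 0], [0, 4]),
    ([5, 0], [0, 5, 6]),
    ([6, 0], [0, 6]),
    ([2, 1], [1, 2, 5, 6]),
    ([3, 1], [1, 3, 5]),
    ([4, 1], [1, 4, 5]),
    ([5, 1], [1, 5]),
    ([6, 1], [1, 6]),
    ([3, 2], [2, 3, 5]),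
    ([4, 2], [2, 4]),
    ([5, 2], [2, 5]),
    ([6, 2], [2, 6]),
    ([4, 3], [3, 4, 6]),
    ([5, 3], [3, 5]),
    ([6, 3], [3, 6]),
    ([5, 4], [4, 5]),
    ([6, 4], [4, 6]),
    ([6, 5], [5, 6])]
  conjs := [(984766975403352917239769614032865743, [0], [2, 3, 5, 6]),
    (984766975403352917239769614032865743, [2], [2, 6]),
    (984766975403352917239769614032865743, [3], [0, 2, 6]),
    (984510046706889075153988708723695237, [1], [1, 2, 4]),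
    (984510046706889075153988708723695237, [2], [4, 6]),
    (984510046706889075153988708723695237, [3], [1, 2, 3, 6]),
    (984510046706889075153988708723695237, [4], [2, 6]),
    (969181846363800089462698733865312257, [5], [1, 4, 5, 6]),
    (969181846363800089462698733865312257, [6], [1, 2, 3, 4, 6]),
    (969181846363800089462698733865312257, [1, 4], [2, 3, 6]),
    (969181846363800089462698733865312257, [2, 3], [2, 3])]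
  rows := [(.ovl [1] 0 [], [0, 0, 1, 1, 1, 0, 0, 0, 1, 1, 0, 1, 1, 0, 0, 0, 0, 0, 1, 0, 1, 1, 1, 0, 1, 0, 1]),
    (.ovl [2] 0 [], [0, 0, 0, 0, 1, 0, 0, 0, 0, 0, 1]),
    (.ovl [5] 0 [], [0, 0, 0, 0, 0, 0, 1, 0, 0, 0, 0, 0, 1]),
    (.ovl [1] 1 [], [0, 0, 0, 0, 0, 0, 0, 0, 0, 0, 0, 0, 0, 0, 0, 0, 1]),
    (.ovl [2] 1 [], [0, 0, 0, 0, 0, 1, 1, 0, 0, 0, 0, 0, 0, 0, 0, 0, 1, 1, 0, 0, 1, 0, 0, 0, 0, 0, 0, 1]),
    (.ovl [3] 1 [], [0, 0, 0, 0, 0, 1, 0, 0, 0, 0, 0, 0, 0, 0, 0, 0, 1, 0, 0, 0, 0, 0, 0, 1]),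
    (.ovl [4] 1 [], [0, 0, 0, 0, 0, 1, 0, 0, 0, 0, 0, 0, 0, 0, 0, 0, 1, 0, 0, 0, 0, 0, 0, 0, 0, 1]),
    (.ovl [6] 1 [], [0, 0, 0, 0, 0, 0, 0, 0, 0, 0, 0, 0, 0, 0, 0, 0, 0, 0, 0, 0, 0, 0, 0, 0, 0, 0, 0, 1]),
    (.ovl [3] 2 [], [0, 0, 0, 0, 0, 1, 0, 0, 0, 0, 0, 0, 0, 0, 0, 0, 0, 0, 0, 0, 1]),
    (.ovl [3] 3 [], [0, 0, 0, 0, 0, 0, 0, 0, 0, 0, 0, 0, 0, 0, 0, 0, 0, 0, 0, 0, 0, 0, 0, 1]),
    (.ovl [4] 3 [], [0, 0, 0, 0, 0, 0, 1, 0, 0, 0, 0, 0, 0, 0, 0, 0, 0, 0, 0, 0, 0, 0, 0, 0, 1, 1]),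
    (.ovl [1] 7 [], [0, 0, 1, 1, 0, 1, 1, 0, 0, 0, 0, 1, 0, 1, 1, 0, 1, 1, 1, 0, 1, 0, 0, 1, 1, 0, 0, 0]),
    (.ovl [2] 7 [], [0, 0, 0, 0, 0, 0, 0, 0, 0, 0, 0, 1, 1, 0, 0, 1, 0, 0, 1, 1, 1, 0, 1, 0, 1, 1, 0, 0]),
    (.ovl [3] 7 [], [0, 0, 0, 0, 0, 1, 0, 0, 0, 0, 0, 1, 0, 0, 0, 1, 0, 0, 1, 1, 0, 0, 1, 0, 1, 1, 1, 1]),
    (.ovl [4] 7 [], [0, 0, 0, 0, 0, 0, 0, 0, 0, 0, 0, 1, 0, 0, 0, 0, 0, 0, 0, 1, 1, 0, 1, 1, 0, 1, 1, 1]),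
    (.ovl [5] 7 [], [0, 0, 0, 0, 0, 0, 0, 0, 0, 0, 0, 0, 0, 0, 0, 0, 0, 1, 0, 0, 1, 1, 0, 1, 1, 0, 0, 0]),
    (.ovl [6] 7 [], [0, 0, 0, 0, 0, 0, 0, 0, 0, 0, 0, 0, 0, 0, 0, 0, 0, 0, 0, 0, 0, 1, 0, 0, 1, 0, 0, 1]),
    (.ovl [2] 8 [], [0, 0, 0, 0, 1, 0, 0, 0, 0, 0, 0, 0, 0, 0, 0, 0, 0, 0, 0, 1]),
    (.cnj 0 [0, 0] [], [1, 0, 1, 1, 0, 0, 1, 0, 0, 0, 0, 0, 0, 0, 0, 0, 0, 0, 1, 0, 1, 1, 0, 0, 1, 0, 0, 1, 0]),
    (.cnj 0 [2, 2, 1] [1, 2, 2], [0, 0, 0, 0, 0, 0, 0, 0, 0, 0, 1, 0, 0, 0, 0, 0, 0, 0, 0, 0, 1, 0, 0, 0, 0, 0, 0, 0, 0, 0, 0]),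
    (.cnj 3 [4, 4] [], [0, 0, 1, 0, 1, 0, 1, 0, 0, 0, 0, 0, 0, 0, 0, 0, 0, 0, 0, 0, 0, 0, 0, 0, 0, 0, 1, 0, 0, 0, 0, 0, 0]),
    (.cnj 3 [5, 5] [3, 3], [0, 1, 0, 0, 1, 1, 1, 0, 0, 0, 0, 0, 0, 0, 1, 1, 0, 1, 1, 1, 0, 1, 0, 0, 1, 1, 0, 0, 0, 0, 0, 0, 0, 0]),
    (.cnj 3 [3, 5, 3] [5], [0, 0, 1, 0, 1, 0, 1, 0, 0, 0, 0, 0, 0, 1, 0, 0, 1, 1, 1, 0, 1, 0, 1, 0, 1, 0, 0, 0, 0, 0, 0, 0, 0, 0]),
    (.cnj 7 [7, 7] [], [0, 1, 0, 0, 1, 1, 1, 0, 0, 0, 0, 0, 0, 0, 0, 1, 1, 1, 0, 0, 0, 0, 0, 0, 0, 0, 1, 1, 0, 0, 0, 0, 0, 0, 0, 0])]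
  lam := [[], [], [0, 1, 0, 0, 0, 0, 0, 1, 0, 0, 0, 1], [], [0, 0, 0, 0, 0, 0, 0, 0, 1], [0, 1], [0, 0, 0, 0, 0, 0, 0, 0, 0, 0, 0, 1]]
  combos := [[(2, 1), (4, 1), (8, 1), (9, 1), (11, 1), (12, 1), (13, 1), (14, 1), (15, 1), (16, 1), (18, 1), (20, 1), (21, 1), (22, 1), (23, 1)],
    [],
    [(1, 1), (2, 1), (3, 1), (5, 1), (7, 1), (9, 1), (12, 1), (13, 1), (19, 1), (20, 1)],
    [(2, 1), (4, 1), (6, 1), (9, 1), (10, 1), (11, 1), (12, 1), (16, 1), (21, 1), (22, 1)],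
    [(1, 1), (3, 1), (5, 1), (8, 1), (9, 1), (19, 1)],
    [(3, 1), (5, 1), (9, 1)],
    [(4, 1), (5, 1), (15, 1), (16, 1)],
    [],
    [],
    [(0, 1), (3, 1), (4, 1), (6, 1), (11, 1), (12, 1), (13, 1), (15, 1), (16, 1), (17, 1), (20, 1), (21, 1), (22, 1), (23, 1)],
    [(3, 1), (5, 1), (8, 1), (9, 1), (19, 1)],
    [],
    [(2, 1), (4, 1), (5, 1), (15, 1), (16, 1)],
    [(2, 1), (3, 1), (6, 1), (7, 1), (12, 1), (17, 1), (20, 1), (22, 1), (23, 1)],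
    [(10, 1), (13, 1), (14, 1), (15, 1), (17, 1), (21, 1)],
    [(1, 1), (2, 1), (5, 1), (7, 1), (8, 1), (12, 1), (13, 1), (15, 1), (16, 1), (19, 1), (23, 1)],
    [(3, 1)],
    [(3, 1), (5, 1), (7, 1), (8, 1), (15, 1), (16, 1)],
    [(1, 1), (2, 1), (4, 1), (5, 1), (6, 1), (7, 1), (10, 1), (12, 1), (14, 1), (19, 1), (23, 1)],
    [(1, 1), (3, 1), (5, 1), (8, 1), (9, 1), (17, 1), (19, 1)],
    [(3, 1), (5, 1), (8, 1), (9, 1)],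
    [(4, 1), (6, 1), (7, 1), (9, 1), (10, 1), (15, 1)],
    [(1, 1), (2, 1), (4, 1), (6, 1), (8, 1), (12, 1), (13, 1), (14, 1), (15, 1), (16, 1), (17, 1), (19, 1)],
    [(9, 1)],
    [(4, 1), (6, 1), (9, 1), (10, 1), (15, 1), (16, 1)],
    [(5, 1), (6, 1), (9, 1)],
    [(2, 1), (4, 1), (5, 1), (7, 1), (8, 1), (12, 1), (13, 1), (15, 1), (16, 1)],
    [(7, 1)]]

theorem cert2_gen : cert2.genOK code = true := by decide +kernel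
theorem cert2_rel : cert2.relOK code = true := by decide +kernel
theorem cert2_pc : cert2.pcOK 2 = true := by decide +kernel
theorem cert2_indep : cert2.indepOK code 2 = true := by decide +kernel
theorem cert2_rows : cert2.rowsOK code 2 = true := by decide +kernel
theorem cert2_target : cert2.targetOK 2 = true := by decide +kernel

theorem cert2_valid : cert2.Valid code 2 :=
  ⟨cert2_gen, cert2_rel, cert2_pc, cert2_indep, cert2_rows, cert2_target⟩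

/-- certificate at 3 -/
def cert3 : Cert ℕ where
  n := 2
  σ := [964029903380291392951184700823679328, 964044890161730882598486314045392928]
  rules := [([0, 0, 0], []),
    ([1, 1, 1], []),
    ([1, 0], [0, 1])]
  conjs := [(973562370053370999943645438152351893, [0], [0, 1]),
    (973562370053370999943645438152351893, [1], [0, 0, 1])]
  rows := [(.cnj 0 [1, 0] [0, 1], [0, 0, 1, 0, 0]),
    (.cnj 0 [0, 0, 0] [], [0, 1, 0, 0]),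
    (.cnj 0 [1, 1, 1] [], [2, 0, 0, 0, 0])]
  lam := [[], []]
  combos := [[(2, 1)],
    [(1, 2)],
    [(0, 2)]]

theorem cert3_gen : cert3.genOK code = true := by decide +kernel
theorem cert3_rel : cert3.relOK code = true := by decide +kernel
theorem cert3_pc : cert3.pcOK 3 = true := by decide +kernel
theorem cert3_indep : cert3.indepOK code 3 = true := by decide +kernel
theorem cert3_rows : cert3.rowsOK code 3 = true := by decide +kernel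
theorem cert3_target : cert3.targetOK 3 = true := by decide +kernel

theorem cert3_valid : cert3.Valid code 3 :=
  ⟨cert3_gen, cert3_rel, cert3_pc, cert3_indep, cert3_rows, cert3_target⟩

end CfsgLib.KnownB.Mult.M23
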