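import Mathlib

/-!
Subgroups generated by sequences in which each term normalises the later ones and has its `p`-th
power among them.
-/

set_option autoImplicit false

namespace CfsgLib.KnownB.Mult

open Subgroup

variable {X : Type*} [Group X]

/-- the subgroup generated by the terms from `k` on -/
def tail (x : ℕ → X) (n k : ℕ) : Subgroup X := closure (x '' Set.Ico k n)

theorem tail_eq_bot (x : ℕ → X) {n k : ℕ} (h : n ≤ k) : tail x n k = ⊥ := by
  simp [tail, Set.Ico_eq_empty (not_lt.2 h)]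

theorem mem_tail (x : ℕ → X) {n k j : ℕ} (h : k ≤ j) (h' : j < n) : x j ∈ tail x n k :=
  subset_closure ⟨j, ⟨h, h'⟩, rfl⟩

theorem tail_le (x : ℕ → X) (n k : ℕ) : tail x n (k + 1) ≤ tail x n k :=
  closure_mono (Set.image_mono (Set.Ico_subset_Ico_left (Nat.le_succ k)))

theorem tail_eq_sup (x : ℕ → X) {n k : ℕ} (hk : k < n) :
    tail x n k = zpowers (x k) ⊔ tail x n (k + 1) := by
  rw [zpowers_eq_closure, tail, tail, ← Subgroup.closure_union, ← Set.image_singleton, ← Set.image_union]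
  congr 2
  ext j
  simp only [Set.mem_Ico, Set.mem_union, Set.mem_singleton_iff]
  omega

/-- each term normalises the later ones and has its `p`-th power among them -/
structure IsPc (p : ℕ) (x : ℕ → X) (n : ℕ) : Prop where
  pow_mem : ∀ k < n, x k ^ p ∈ tail x n (k + 1)
  conj_mem : ∀ k b, k < b → b < n → (x k)⁻¹ * x b * x k ∈ tail x n (k + 1)

variable {p : ℕ} [hp : Fact p.Prime] [Finite X] {x : ℕ → X} {n : ℕ}

omit hp in
theorem IsPc.mem_normalizer (h : IsPc p x n) {k : ℕ} :
    k < n → x k ∈ normalizer (tail x n (k + 1) : Set X) := by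
  intro hk
  have hle : (tail x n (k + 1)).map (MulAut.conj (x k)⁻¹).toMonoidHom ≤ tail x n (k + 1) := by
    rw [tail, MonoidHom.map_closure, closure_le]
    rintro _ ⟨_, ⟨b, ⟨hb1, hb2⟩, rfl⟩, rfl⟩
    simpa [tail] using h.conj_mem k b hb1 hb2
  have heq : (tail x n (k + 1)).map (MulAut.conj (x k)⁻¹).toMonoidHom = tail x n (k + 1) :=
    eq_of_le_of_card_ge hle (by
      rw [Nat.card_congr ((tail x n (k + 1)).equivMapOfInjective (MulAut.conj (x k)⁻¹).toMonoidHom
        (MulAut.conj (x k)⁻¹).injective).toEquiv])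
  rw [mem_normalizer_iff'']
  intro g
  constructor
  · intro hg
    rw [← heq]
    exact ⟨g, hg, by simp⟩
  · intro hg
    rw [← heq] at hg
    obtain ⟨g', hg', he⟩ := hg
    rw [← (MulAut.conj (x k)⁻¹).injective (a₁ := g') (a₂ := g) (by simpa [MulAut.conj_apply] using he)]
    exact hg'

theorem IsPc.exists_rep (h : IsPc p x n) {k : ℕ} (hk : k < n) {g : X} (hg : g ∈ tail x n k) :
    ∃ a < p, ∃ t ∈ tail x n (k + 1), g = x k ^ a * t := by
  rw [tail_eq_sup x hk] at hg
  have hle : zpowers (x k) ≤ normalizer (tail x n (k + 1) : Set X) :=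
    zpowers_le.2 (h.mem_normalizer hk)
  have hg' := SetLike.mem_coe.2 hg
  rw [coe_mul_of_left_le_normalizer_right _ _ hle] at hg'
  obtain ⟨_, ⟨m, rfl⟩, t, ht, rfl⟩ := hg'
  have hp0 : (p : ℤ) ≠ 0 := by exact_mod_cast hp.out.ne_zero
  refine ⟨(m % p).toNat, ?_, (x k ^ p) ^ (m / p) * t,
    mul_mem (zpow_mem (h.pow_mem k hk) _) ht, ?_⟩
  · have := Int.emod_lt_of_pos m (show (0 : ℤ) < p by exact_mod_cast hp.out.pos)
    omega
  · rw [← mul_assoc, ← zpow_natCast (x k) p, ← zpow_mul, ← zpow_natCast (x k) (m % p).toNat,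
      Int.toNat_of_nonneg (Int.emod_nonneg _ hp0), ← zpow_add, Int.emod_add_mul_ediv]

omit [Finite X] in
theorem IsPc.mem_of_pow_mem (h : IsPc p x n) {k a : ℕ} (hk : k < n) (ha : a < p) (ha0 : a ≠ 0)
    (hm : x k ^ a ∈ tail x n (k + 1)) : x k ∈ tail x n (k + 1) := by
  have hg : Nat.gcd a p = 1 :=
    Nat.Coprime.symm (hp.out.coprime_iff_not_dvd.2 fun hd =>
      absurd (Nat.le_of_dvd (Nat.pos_of_ne_zero ha0) hd) (not_le.2 ha))
  have hb : (1 : ℤ) = a * Nat.gcdA a p + p * Nat.gcdB a p := by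
    rw [← Nat.gcd_eq_gcd_ab, hg, Nat.cast_one]
  rw [← zpow_one (x k), hb, zpow_add, zpow_mul, zpow_mul, zpow_natCast, zpow_natCast]
  exact mul_mem (zpow_mem hm _) (zpow_mem (h.pow_mem k hk) _)

theorem IsPc.natCard_tail (h : IsPc p x n) (hne : ∀ k < n, x k ∉ tail x n (k + 1)) :
    ∀ d k, k + d = n → Nat.card (tail x n k) = p ^ d
  | 0, k, hk => by rw [tail_eq_bot x (by omega), card_bot, pow_zero]
  | d + 1, k, hk => by
    have hk' : k < n := by omega
    let F : Fin p × tail x n (k + 1) → tail x n k := fun q =>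
      ⟨x k ^ (q.1 : ℕ) * q.2.1, mul_mem (Subgroup.pow_mem _ (mem_tail x le_rfl hk') _) (tail_le x n k q.2.2)⟩
    have hF : Function.Bijective F := by
      constructor
      · have key : ∀ a b : Fin p, ∀ s t : tail x n (k + 1), (a : ℕ) ≤ b →
            x k ^ (a : ℕ) * s.1 = x k ^ (b : ℕ) * t.1 → a = b := by
          intro a b s t hab e
          by_contra hne'
          have hlt : (a : ℕ) < b := lt_of_le_of_ne hab fun e' => hne' (Fin.ext e')
          rw [show (b : ℕ) = a + (b - a) by omega, pow_add, mul_assoc, mul_right_inj] at e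
          refine hne k hk' (h.mem_of_pow_mem hk' (a := b - a) (by omega) (by omega) ?_)
          rw [show x k ^ ((b : ℕ) - a) = s.1 * (t.1)⁻¹ by rw [e, mul_inv_cancel_right]]
          exact mul_mem s.2 (inv_mem t.2)
        rintro ⟨a, s⟩ ⟨b, t⟩ e
        have e' : x k ^ (a : ℕ) * s.1 = x k ^ (b : ℕ) * t.1 := congrArg Subtype.val e
        have hab : a = b := (le_total (a : ℕ) b).elim (fun l => key a b s t l e')
          (fun l => (key b a t s l e'.symm).symm)
        subst hab
        exact Prod.ext rfl (Subtype.ext (mul_left_cancel e'))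
      · rintro ⟨g, hg⟩
        obtain ⟨a, ha, t, ht, rfl⟩ := h.exists_rep hk' hg
        exact ⟨⟨⟨a, ha⟩, ⟨t, ht⟩⟩, rfl⟩
    rw [← Nat.card_congr (Equiv.ofBijective F hF), Nat.card_prod, Nat.card_fin,
      h.natCard_tail hne d (k + 1) (by omega), pow_succ']

/-- A homomorphism which separates each term from the later ones is injective. -/
theorem IsPc.eq_one_of_map_eq_one (h : IsPc p x n) {Y : Type*} [Group Y] (f : X →* Y)
    (hne : ∀ k < n, f (x k) ∉ (tail x n (k + 1)).map f) :
    ∀ d k, k + d = n → ∀ g ∈ tail x n k, f g = 1 → g = 1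
  | 0, k, hk, g, hg, _ => by rwa [tail_eq_bot x (by omega), mem_bot] at hg
  | d + 1, k, hk, g, hg, h1 => by
    have hk' : k < n := by omega
    obtain ⟨a, ha, t, ht, rfl⟩ := h.exists_rep hk' hg
    by_cases ha0 : a = 0
    · subst ha0
      rw [pow_zero, one_mul] at h1 ⊢
      exact h.eq_one_of_map_eq_one f hne d (k + 1) (by omega) t ht h1
    · exfalso
      refine hne k hk' ?_
      have hm : f (x k) ^ a ∈ (tail x n (k + 1)).map f := by
        rw [map_mul] at h1
        rw [← map_pow, eq_inv_of_mul_eq_one_left h1]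
        exact inv_mem (mem_map_of_mem f ht)
      have hg : Nat.gcd a p = 1 :=
        Nat.Coprime.symm (hp.out.coprime_iff_not_dvd.2 fun hd =>
          absurd (Nat.le_of_dvd (Nat.pos_of_ne_zero ha0) hd) (not_le.2 ha))
      have hb : (1 : ℤ) = a * Nat.gcdA a p + p * Nat.gcdB a p := by
        rw [← Nat.gcd_eq_gcd_ab, hg, Nat.cast_one]
      rw [← zpow_one (f (x k)), hb, zpow_add, zpow_mul, zpow_mul, zpow_natCast, zpow_natCast]
      refine mul_mem (zpow_mem hm _) (zpow_mem ?_ _)
      rw [← map_pow]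
      exact mem_map_of_mem f (h.pow_mem k hk')

end CfsgLib.KnownB.Mult
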