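import Mathlib

/-!
Primes whose square does not divide the orders of some sporadic groups.
-/

set_option autoImplicit false

namespace CfsgLib.KnownB.Mult

/-- no prime above `5` divides `2 ^ a * 3 ^ b * 5 ^ c * (7 * 11 * 23)` twice -/
theorem not_sq_dvd_of_small (a b c : ℕ) {p : ℕ} (hp : p.Prime) (h2 : p ≠ 2) (h3 : p ≠ 3)
    (h5 : p ≠ 5) : ¬ p ^ 2 ∣ 2 ^ a * 3 ^ b * 5 ^ c * (7 * 11 * 23) := by
  intro hd
  have c2 : Nat.Coprime (p ^ 2) (2 ^ a) :=
    Nat.Coprime.pow _ _ ((Nat.coprime_primes hp Nat.prime_two).2 h2)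
  have c3 : Nat.Coprime (p ^ 2) (3 ^ b) :=
    Nat.Coprime.pow _ _ ((Nat.coprime_primes hp Nat.prime_three).2 h3)
  have c5 : Nat.Coprime (p ^ 2) (5 ^ c) :=
    Nat.Coprime.pow _ _ ((Nat.coprime_primes hp Nat.prime_five).2 h5)
  rw [mul_assoc, mul_assoc] at hd
  have hd' : p ^ 2 ∣ 7 * 11 * 23 :=
    c5.dvd_of_dvd_mul_left (c3.dvd_of_dvd_mul_left (c2.dvd_of_dvd_mul_left hd))
  have h1 : p ∣ 7 * 11 * 23 := (dvd_pow_self p two_ne_zero).trans hd'
  rcases (hp.dvd_mul.1 h1) with h | h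
  · rcases (hp.dvd_mul.1 h) with h | h
    · rw [(Nat.prime_dvd_prime_iff_eq hp (by norm_num)).1 h] at hd'
      norm_num at hd'
    · rw [(Nat.prime_dvd_prime_iff_eq hp (by norm_num)).1 h] at hd'
      norm_num at hd'
  · rw [(Nat.prime_dvd_prime_iff_eq hp (by norm_num)).1 h] at hd'
    norm_num at hd'

end CfsgLib.KnownB.Mult
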