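import Cfsg.Agent.Lib.KnownB.Mult.Chunks

/-!
The target check at `2` on bit masks.
-/

set_option autoImplicit false

namespace CfsgLib.KnownB.Mult

/-- the mask of a coefficient list modulo `2` -/
def pack2 : List ℕ → ℕ
  | [] => 0
  | c :: l => c % 2 + 2 * pack2 l

theorem pack2_cons_xor (a b A B : ℕ) :
    (a % 2 + 2 * A) ^^^ (b % 2 + 2 * B) = (a + b) % 2 + 2 * (A ^^^ B) := by
  apply Nat.eq_of_testBit_eq
  intro i
  cases i with
  | zero =>
    simp only [Nat.testBit_xor, Nat.testBit_zero]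
    rcases Nat.mod_two_eq_zero_or_one a with ha | ha <;>
      rcases Nat.mod_two_eq_zero_or_one b with hb | hb <;> simp [Nat.add_mod, ha, hb]
  | succ i =>
    have e : ∀ r x : ℕ, r < 2 → (r + 2 * x).testBit (i + 1) = x.testBit i := fun r x hr => by
      rw [Nat.testBit_succ, show (r + 2 * x) / 2 = x by omega]
    rw [Nat.testBit_xor, e _ _ (Nat.mod_lt _ two_pos), e _ _ (Nat.mod_lt _ two_pos),
      e _ _ (Nat.mod_lt _ two_pos), Nat.testBit_xor]

theorem pack2_addV : ∀ a b : List ℕ, pack2 (addV 2 a b) = pack2 a ^^^ pack2 b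
  | [], b => by simp [addV, pack2]
  | c :: a, [] => by simp [addV, pack2]
  | c :: a, d :: b => by
    rw [addV, pack2, pack2, pack2, pack2_cons_xor, pack2_addV a b, Nat.mod_mod]

theorem pack2_smul_one : ∀ a : List ℕ, pack2 (smulV 2 1 a) = pack2 a
  | [] => rfl
  | c :: a => by
    show (1 * c % 2) % 2 + 2 * pack2 (smulV 2 1 a) = _
    rw [pack2_smul_one a, one_mul, Nat.mod_mod]; rfl

theorem pack2_unitV : ∀ i : ℕ, pack2 (unitV i) = 1 <<< i
  | 0 => rfl
  | i + 1 => by
    rw [unitV, pack2, pack2_unitV i, Nat.shiftLeft_eq, Nat.shiftLeft_eq, pow_succ']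
    omega

theorem isZeroV_of_pack2 : ∀ {a : List ℕ}, pack2 a = 0 → isZeroV 2 a = true
  | [], _ => rfl
  | c :: a, h => by
    rw [pack2] at h
    simp only [isZeroV, List.all_cons, Bool.and_eq_true, Nat.beq_eq]
    exact ⟨by omega, isZeroV_of_pack2 (by omega)⟩

namespace Cert

universe u

variable {C : Type} (c : Cert C)

/-- masks of the shifts of a word -/
def lamX (L : List ℕ) (w : List ℕ) : ℕ := w.foldr (fun a e => L.getD a 0 ^^^ e) 0

/-- the mask of a combination of rows -/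
def combX (R : List ℕ) (l : List (ℕ × ℕ)) : ℕ := l.foldr (fun q e => R.getD q.1 0 ^^^ e) 0

/-- check of a target on masks -/
def tgtX (R L : List ℕ) (i : ℕ) : Bool :=
  Nat.beq ((1 <<< i) ^^^ (lamX L (c.rules.getD i ([], [])).1 ^^^ lamX L (c.rules.getD i ([], [])).2)
    ^^^ combX R (c.combos.getD i [])) 0 &&
  (c.combos.getD i []).all fun q => Nat.blt q.1 c.rows.length && Nat.beq q.2 1

theorem pack2_lamV {L : List ℕ} (hL : L = c.lam.map pack2) :
    ∀ w, pack2 (c.lamV 2 w) = lamX L w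
  | [] => rfl
  | a :: w => by
    have e : c.lamV 2 (a :: w) = addV 2 (c.lam.getD a []) (c.lamV 2 w) := rfl
    rw [e, pack2_addV, pack2_lamV hL w]
    show _ = L.getD a 0 ^^^ lamX L w
    rw [hL, show (0 : ℕ) = pack2 [] from rfl, List.getD_map]

theorem pack2_comb {R : List ℕ} (hR : R = c.rows.map fun r => pack2 r.2) :
    ∀ l : List (ℕ × ℕ), (∀ q ∈ l, q.2 = 1) → pack2 (c.comb 2 l) = combX R l
  | [], _ => rfl
  | q :: l, h => by
    have e : c.comb 2 (q :: l) =
      addV 2 (smulV 2 q.2 (c.rows.getD q.1 (Spec.ovl [] 0 [], [])).2) (c.comb 2 l) := rfl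
    rw [e, pack2_addV, h q List.mem_cons_self, pack2_smul_one,
      pack2_comb hR l fun x hx => h x (List.mem_cons_of_mem _ hx)]
    show _ = R.getD q.1 0 ^^^ combX R l
    rw [hR, ← List.getD_map (f := fun r : Spec × List ℕ => pack2 r.2)]
    rfl

theorem tgtF_of_tgtX {R L : List ℕ} (hR : R = c.rows.map fun r => pack2 r.2)
    (hL : L = c.lam.map pack2) (i : ℕ) (h : c.tgtX R L i = true) : c.tgtF 2 i = true := by
  simp only [tgtX, Bool.and_eq_true, List.all_eq_true, Nat.beq_eq] at h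
  obtain ⟨h0, hq⟩ := h
  simp only [tgtF, Bool.and_eq_true, List.all_eq_true]
  refine ⟨isZeroV_of_pack2 ?_, fun q hq' => (hq q hq').1⟩
  rw [pack2_addV, pack2_addV, pack2_addV, pack2_unitV, show 2 - 1 = 1 from rfl, pack2_smul_one,
    pack2_lamV c hL, pack2_lamV c hL, pack2_comb c hR _ fun q hq' => (hq q hq').2]
  exact h0

theorem all_tgtF_of_tgtX {R L : List ℕ} (hR : R = c.rows.map fun r => pack2 r.2)
    (hL : L = c.lam.map pack2) {l : List ℕ} (h : l.all (c.tgtX R L) = true) :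
    l.all (c.tgtF 2) = true :=
  List.all_eq_true.2 fun i hi => tgtF_of_tgtX c hR hL i (List.all_eq_true.1 h i hi)

end Cert

end CfsgLib.KnownB.Mult
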